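import Groth.Agent.Lib.Repr.AffinePts
import Groth.Agent.Lib.DiagGrp.Points
import Mathlib.Algebra.Polynomial.Laurent

/-!
Points of the multiplicative group over a field.
-/

universe u

open CategoryTheory MonoidalCategory CartesianMonoidalCategory MonObj GrpObj AlgebraicGeometry VecGrp

noncomputable section

namespace GrothLib.Repr

variable (k : Type u) [Field k] {R : Type u} [CommRing R] [Algebra k R]

/-- Characters of `ℤ` are units. -/
def unitsEquivChar (R : Type*) [CommMonoid R] : Rˣ ≃* (Multiplicative ℤ →* R) where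
  toFun w := (Units.coeHom R).comp (zpowersHom Rˣ w)
  invFun χ := χ.toHomUnits (Multiplicative.ofAdd 1)
  left_inv w := Units.ext (by simp [zpowersHom_apply])
  right_inv χ := MonoidHom.ext fun m => by
    obtain ⟨n, rfl⟩ := Multiplicative.ofAdd.surjective m
    simp only [MonoidHom.comp_apply, zpowersHom_apply, toAdd_ofAdd, Units.coeHom_apply]
    rw [← map_zpow, ← ofAdd_zsmul]
    simp
  map_mul' w v := MonoidHom.ext fun m => by
    simp [zpowersHom_apply, mul_zpow]

/-- The point of `𝔾_m` given by a unit. -/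
def gmPt : Rˣ ≃* (pt k R ⟶ Red.Gm (Spec (CommRingCat.of k))) :=
  (unitsEquivChar R).trans (GrothLib.DiagGrp.dsPoint ℤ (Spec (CommRingCat.of R) ↘ Spec (CommRingCat.of k)))

theorem gmPt_map {R' : Type u} [CommRing R'] [Algebra k R'] (f : R →ₐ[k] R') (w : Rˣ) :
    ptMap f ≫ gmPt k w = gmPt k (Units.map (f : R →* R') w) := by
  have hp : Spec.map (CommRingCat.ofHom f.toRingHom) ≫ (Spec (CommRingCat.of R) ↘ Spec (CommRingCat.of k)) =
      (Spec (CommRingCat.of R') ↘ Spec (CommRingCat.of k)) := Over.w (ptMap f)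
  refine (GrothLib.DiagGrp.dsPoint_comp (M := ℤ) _ _ f.toRingHom (unitsEquivChar R w) hp).trans ?_
  refine congrArg (GrothLib.DiagGrp.dsPoint ℤ _) (MonoidHom.ext fun m => ?_)
  change f.toRingHom (((zpowersHom Rˣ w) m : Rˣ) : R) = _
  simp [unitsEquivChar, zpowersHom_apply, ← map_zpow]

variable {k}

/-- The evaluation of a Laurent polynomial at a unit. -/
def evalUnit (w : Rˣ) : LaurentPolynomial k →ₐ[k] R :=
  AddMonoidAlgebra.lift k R ℤ (unitsEquivChar R w)

theorem evalUnit_C_mul_T (w : Rˣ) (a : k) (n : ℤ) :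
    evalUnit w (LaurentPolynomial.C a * LaurentPolynomial.T n) = a • ((w ^ n : Rˣ) : R) := by
  rw [← LaurentPolynomial.single_eq_C_mul_T]
  rw [evalUnit, AddMonoidAlgebra.lift_single]
  simp [unitsEquivChar, zpowersHom_apply]

variable (k) in
/-- The universal point. -/
def unitT : (LaurentPolynomial k)ˣ :=
  (LaurentPolynomial.isUnit_T (R := k) 1).unit

theorem evalUnit_unitT (w : Rˣ) : Units.map (evalUnit (k := k) w : LaurentPolynomial k →* R) (unitT k) = w := by
  refine Units.ext ?_
  change evalUnit (k := k) w (LaurentPolynomial.T 1) = w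
  rw [← _root_.one_mul (LaurentPolynomial.T 1 : LaurentPolynomial k), ← map_one LaurentPolynomial.C, evalUnit_C_mul_T]
  simp

/-- The coefficient of degree `n` as a linear map. -/
def lcoeff (n : ℤ) : LaurentPolynomial R →ₗ[R] R where
  toFun p := p.coeff n
  map_add' p q := by simp
  map_smul' r p := by simp

theorem lcoeff_C_mul (n : ℤ) (a : R) (p : LaurentPolynomial R) :
    lcoeff n (LaurentPolynomial.C a * p) = a * lcoeff n p := by
  rw [← LaurentPolynomial.smul_eq_C_mul, map_smul, smul_eq_mul]

theorem lcoeff_C (n : ℤ) (a : R) : lcoeff n (LaurentPolynomial.C a) = if n = 0 then a else 0 := by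
  change (AddMonoidAlgebra.single (0 : ℤ) a).coeff n = _
  rw [AddMonoidAlgebra.coeff_single, Finsupp.single_apply]
  simp [eq_comm]

theorem lcoeff_evalUnit (w : Rˣ) (u : (LaurentPolynomial R)ˣ)
    (hu : (u : LaurentPolynomial R) = LaurentPolynomial.C (w : R) * LaurentPolynomial.T 1) (n : ℤ) (p : LaurentPolynomial k) :
    lcoeff n (evalUnit u p) = lcoeff n p • ((w ^ n : Rˣ) : R) := by
  have hpow : ∀ m : ℤ, ((u ^ m : (LaurentPolynomial R)ˣ) : LaurentPolynomial R) =
      LaurentPolynomial.C ((w ^ m : Rˣ) : R) * LaurentPolynomial.T m := fun m => by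
    have he : u = Units.map (LaurentPolynomial.C : R →+* LaurentPolynomial R).toMonoidHom w *
        (LaurentPolynomial.isUnit_T (R := R) 1).unit := Units.ext hu
    rw [he, mul_zpow, Units.val_mul]
    congr 1
    · rw [← map_zpow]; rfl
    · induction m using Int.induction_on with
      | zero => simp
      | succ m ih => rw [zpow_add, Units.val_mul, ih, zpow_one, IsUnit.unit_spec, ← LaurentPolynomial.T_add]
      | pred m ih =>
        rw [zpow_sub, Units.val_mul, ih, zpow_one]
        refine (Units.mul_inv_eq_iff_eq_mul _).2 ?_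
        rw [IsUnit.unit_spec, ← LaurentPolynomial.T_add]
        simp
  induction p using LaurentPolynomial.induction_on' with
  | add p q hp hq => simp [map_add, hp, hq, add_smul]
  | C_mul_T m a =>
    rw [evalUnit_C_mul_T, hpow, ← LaurentPolynomial.single_eq_C_mul_T, ← LaurentPolynomial.single_eq_C_mul_T]
    show (a • AddMonoidAlgebra.single m ((w ^ m : Rˣ) : R)).coeff n = (AddMonoidAlgebra.single m a).coeff n • _
    rw [AddMonoidAlgebra.smul_single, AddMonoidAlgebra.coeff_single, AddMonoidAlgebra.coeff_single,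
      Finsupp.single_apply, Finsupp.single_apply]
    split_ifs with h
    · rw [h]
    · simp

end GrothLib.Repr
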