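import Groth.Agent.Lib.Chevalley.AffineQuot
import Groth.Prelude.Def_VecGrp
import Mathlib.RingTheory.Localization.Away.Basic

/-!
Morphisms given on affine points over a field.
-/

universe u

open CategoryTheory CategoryTheory.Limits MonoidalCategory CartesianMonoidalCategory MonObj GrpObj
open AlgebraicGeometry VecGrp

namespace GrothLib.Repr

variable {k : Type u} [Field k]

local notation "S" => Spec (CommRingCat.of k)

/-- A morphism of affine test schemes comes from an algebra map. -/
theorem exists_ptMap {R R' : Type u} [CommRing R] [Algebra k R] [CommRing R'] [Algebra k R']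
    (t : pt k R' ⟶ pt k R) : ∃ φ : R →ₐ[k] R', t = ptMap φ := by
  obtain ⟨f, hf⟩ := Spec.map_surjective t.left
  have w : Spec.map f ≫ Spec.map (CommRingCat.ofHom (algebraMap k R)) =
      Spec.map (CommRingCat.ofHom (algebraMap k R')) := by rw [hf]; exact Over.w t
  rw [← Spec.map_comp] at w
  refine ⟨{ f.hom with commutes' := fun r => congr($(Spec.map_injective w).hom r) }, ?_⟩
  exact Over.OverMorphism.ext hf.symm

theorem ptMap_comp {R R' R'' : Type u} [CommRing R] [Algebra k R] [CommRing R'] [Algebra k R']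
    [CommRing R''] [Algebra k R''] (f : R →ₐ[k] R') (g : R' →ₐ[k] R'') :
    ptMap (g.comp f) = ptMap g ≫ ptMap f := by
  refine Over.OverMorphism.ext ?_
  rw [Over.comp_left, ptMap_left, ptMap_left, ptMap_left, LieS.specMap_comp]
  rfl

theorem ptMap_id (R : Type u) [CommRing R] [Algebra k R] : ptMap (AlgHom.id k R) = 𝟙 (pt k R) := by
  refine Over.OverMorphism.ext ?_
  rw [ptMap_left]
  exact Spec.map_id _

theorem hom_ext_pts {T X : Over S} {f g : T ⟶ X}
    (h : ∀ (R : Type u) [CommRing R] [Algebra k R] (u : pt k R ⟶ T), u ≫ f = u ≫ g) : f = g :=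
  GrothLib.Chevalley.hom_ext_affine h

/-- A natural family of maps on affine points comes from a morphism. -/
theorem exists_hom_of_natural {T X : Over S}
    (F : ∀ (R : Type u) [CommRing R] [Algebra k R], (pt k R ⟶ T) → (pt k R ⟶ X))
    (hF : ∀ (R R' : Type u) [CommRing R] [Algebra k R] [CommRing R'] [Algebra k R'] (φ : R →ₐ[k] R')
      (u : pt k R ⟶ T), ptMap φ ≫ F R u = F R' (ptMap φ ≫ u)) :
    ∃ f : T ⟶ X, ∀ (R : Type u) [CommRing R] [Algebra k R] (u : pt k R ⟶ T), u ≫ f = F R u := by
  choose R hR₁ hR₂ u e hu using fun a => GrothLib.Chevalley.exists_affine_pts (k := k) (T := T) a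
  let U := T.left.affineCover
  let g : ∀ a, U.X a ⟶ X.left := fun a => eqToHom (e a).symm ≫ (F (R a) (u a)).left
  have hfac : ∀ a, eqToHom (e a).symm ≫ (u a).left = U.f a := fun a => by
    rw [hu a]; simp [U]
  have key : ∀ (R' : Type u) [CommRing R'] [Algebra k R'] (v : pt k R' ⟶ T) (a : U.I₀)
      (w : Spec (CommRingCat.of R') ⟶ U.X a), w ≫ U.f a = v.left → w ≫ g a = (F R' v).left := by
    intro R' _ _ v a w hw
    let w' : pt k R' ⟶ pt k (R a) := Over.homMk (w ≫ eqToHom (e a).symm) (by
      refine Eq.trans ?_ (Over.w v)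
      rw [← hw]
      show (w ≫ eqToHom (e a).symm) ≫ ((Spec (CommRingCat.of (R a))).asOver S).hom = _
      rw [← Over.w (u a)]
      exact (Category.assoc _ _ _).trans ((congrArg (w ≫ ·) ((Category.assoc _ _ _).symm.trans
        (congrArg (· ≫ T.hom) (hfac a)))).trans (Category.assoc _ _ _).symm))
    obtain ⟨φ, hφ⟩ := exists_ptMap w'
    have hv : ptMap φ ≫ u a = v := by
      rw [← hφ]
      refine Over.OverMorphism.ext ?_
      exact (Category.assoc _ _ _).trans ((congrArg (w ≫ ·) (hfac a)).trans hw)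
    have h := congrArg (·.left) (hF _ _ φ (u a))
    rw [hv, ← hφ] at h
    refine Eq.trans ?_ h
    show w ≫ eqToHom (e a).symm ≫ (F (R a) (u a)).left = (w ≫ eqToHom (e a).symm) ≫ (F (R a) (u a)).left
    rw [Category.assoc]
  have hglue : ∀ a b, pullback.fst (U.f a) (U.f b) ≫ g a = pullback.snd (U.f a) (U.f b) ≫ g b := by
    intro a b
    let V : Over S := Over.mk (pullback.fst (U.f a) (U.f b) ≫ U.f a ≫ T.hom)
    refine Scheme.Cover.hom_ext V.left.affineCover _ _ fun c => ?_
    obtain ⟨R', _, _, v, e', hv⟩ := GrothLib.Chevalley.exists_affine_pts (k := k) (T := V) c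
    let p : V ⟶ T := Over.homMk (pullback.fst (U.f a) (U.f b) ≫ U.f a) (Category.assoc _ _ _)
    have h1 := key R' (v ≫ p) a (v.left ≫ pullback.fst (U.f a) (U.f b)) (Category.assoc _ _ _)
    have h2 := key R' (v ≫ p) b (v.left ≫ pullback.snd (U.f a) (U.f b))
      ((Category.assoc _ _ _).trans (congrArg (v.left ≫ ·) pullback.condition.symm))
    have h3 := h1.trans h2.symm
    rw [hv] at h3
    simp only [Category.assoc] at h3
    exact (cancel_epi (eqToHom e')).1 h3
  let f₀ : T.left ⟶ X.left := U.glueMorphisms g hglue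
  have hf : ∀ (R' : Type u) [CommRing R'] [Algebra k R'] (v : pt k R' ⟶ T),
      v.left ≫ f₀ = (F R' v).left := by
    intro R' _ _ v
    let 𝒱 := Precoverage.ZeroHypercover.pullback₁ v.left U
    refine Scheme.Cover.hom_ext 𝒱 _ _ fun (a : U.I₀) => ?_
    show pullback.fst v.left (U.f a) ≫ v.left ≫ f₀ = pullback.fst v.left (U.f a) ≫ (F R' v).left
    let V : Over S := Over.mk (pullback.fst v.left (U.f a) ≫ (pt k R').hom)
    refine Scheme.Cover.hom_ext V.left.affineCover _ _ fun c => ?_
    obtain ⟨R'', _, _, z, e', hz⟩ := GrothLib.Chevalley.exists_affine_pts (k := k) (T := V) c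
    let p : V ⟶ pt k R' := Over.homMk (pullback.fst v.left (U.f a)) rfl
    obtain ⟨φ, hφ⟩ := exists_ptMap (z ≫ p)
    have h1 := key R'' ((z ≫ p) ≫ v) a (z.left ≫ pullback.snd v.left (U.f a))
      ((Category.assoc _ _ _).trans ((congrArg (z.left ≫ ·) pullback.condition.symm).trans
        (Category.assoc _ _ _).symm))
    rw [hφ, ← hF, ← hφ] at h1
    have h2 : z.left ≫ pullback.fst v.left (U.f a) ≫ v.left ≫ f₀ =
        z.left ≫ pullback.fst v.left (U.f a) ≫ (F R' v).left := by
      rw [pullback.condition_assoc, Scheme.Cover.ι_glueMorphisms]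
      exact (Category.assoc _ _ _).symm.trans (h1.trans (Category.assoc _ _ _))
    rw [hz] at h2
    exact (cancel_epi (eqToHom e')).1
      ((Category.assoc _ _ _).symm.trans (h2.trans (Category.assoc _ _ _)))

  refine ⟨Over.homMk f₀ (U.hom_ext _ _ fun a => ?_), fun R' _ _ v => Over.OverMorphism.ext (hf R' v)⟩
  refine (congrArg (· ≫ f₀ ≫ X.hom) (hfac a).symm).trans ?_
  refine Eq.trans ?_ (congrArg (· ≫ T.hom) (hfac a))
  refine (Category.assoc _ _ _).trans (Eq.trans ?_ (Category.assoc _ _ _).symm)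
  refine congrArg (eqToHom (e a).symm ≫ ·) ?_
  refine (Category.assoc _ _ _).symm.trans ((congrArg (· ≫ X.hom) (hf (R a) (u a))).trans ?_)
  exact (Over.w (F (R a) (u a))).trans (Over.w (u a)).symm

end GrothLib.Repr
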