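import Groth.Agent.Lib.Repr.FixedPoint
import Groth.Agent.Lib.GrpSchField.Components
import Groth.Agent.Lib.GrpSchField.Open
import Groth.Agent.Lib.GrpSchField.Shear
import Groth.Agent.Lib.Chevalley.GroupQuot
import Groth.Agent.Lib.DiagGrp.TrivOver

/-!
The adjoint representations of a connected group on the infinitesimal neighbourhoods of the unit
detect the centre.
-/

universe u

open CategoryTheory CategoryTheory.Limits MonoidalCategory CartesianMonoidalCategory MonObj GrpObj
open AlgebraicGeometry VecGrp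
open scoped TensorProduct

noncomputable section

namespace GrothLib.Repr

variable {k : Type u} [Field k]

/-- The action by conjugation. -/
def conjAct (G : Over (Spec (CommRingCat.of k))) [GrpObj G] : AlgGrp.Action G G where
  act := fst G G * snd G G * (fst G G)⁻¹
  one_act := by
    have e1 : (η[G] ▷ G) ≫ fst (G : Over (Spec (CommRingCat.of k))) G = 1 := by
      rw [whiskerRight_fst, Hom.one_def]; congr 1
    rw [MonObj.comp_mul, MonObj.comp_mul, GrpObj.comp_inv, e1, inv_one, _root_.mul_one, _root_.one_mul,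
      whiskerRight_snd, leftUnitor_hom]
  mul_act := by
    apply GrothLib.GrpSchField.hom_ext_points₂
    intro T p y
    rw [← GrothLib.GrpSchField.lift_fst_snd_comp p]
    generalize p ≫ fst G G = g
    generalize p ≫ snd G G = g'
    simp only [lift_lift_associator_hom_assoc, lift_whiskerRight_assoc, lift_whiskerLeft_assoc,
      ← Hom.mul_def, MonObj.comp_mul, GrpObj.comp_inv, lift_fst, lift_snd, _root_.mul_inv_rev]
    simp only [_root_.mul_assoc]

theorem lift_conjAct {G T : Over (Spec (CommRingCat.of k))} [GrpObj G] (g y : T ⟶ G) :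
    lift g y ≫ (conjAct G).act = g * y * g⁻¹ := by
  simp only [conjAct, MonObj.comp_mul, GrpObj.comp_inv, lift_fst, lift_snd]

theorem irreducibleSpace_of_connected (G : Over (Spec (CommRingCat.of k))) [GrpObj G]
    [LocallyOfFiniteType G.hom] [ConnectedSpace G.left] : IrreducibleSpace G.left := by
  obtain ⟨x⟩ := (inferInstance : Nonempty G.left)
  have h : irreducibleComponent x = Set.univ := by
    rw [← GrothLib.GrpSchField.connectedComponent_eq_irreducibleComponent, PreconnectedSpace.connectedComponent_eq_univ]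
  have hirr : IsIrreducible (Set.univ : Set G.left) := h ▸ isIrreducible_irreducibleComponent
  exact { isPreirreducible_univ := hirr.2, toNonempty := ⟨x⟩ }

theorem exists_modules_centre (G : Over (Spec (CommRingCat.of k))) [GrpObj G]
    [LocallyOfFiniteType G.hom] [QuasiCompact G.hom] [ConnectedSpace G.left] :
    ∃ (Ms : ULift.{u} ℕ → Type u) (_ : ∀ n, AddCommGroup (Ms n)) (_ : ∀ n, Module k (Ms n))
      (ms : ∀ n, GMod G (Ms n)),
      ∀ (R : Type u) [CommRing R] [Algebra k R] (u : pt k R ⟶ G),
        (∀ n (v : Ms n), act (ms n) u v = (1 : R) ⊗ₜ[k] v) ↔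
          ∀ (T' : Over (Spec (CommRingCat.of k))) (s : T' ⟶ pt k R) (y : T' ⟶ G),
            (s ≫ u) * y = y * (s ≫ u) := by
  haveI := GrothLib.GrpSchField.isSeparated G
  haveI := isSeparated_of_isSeparated_hom (k := k) (X := G)
  haveI : IsLocallyNoetherian G.left := LocallyOfFiniteType.isLocallyNoetherian G.hom
  haveI := irreducibleSpace_of_connected G
  haveI : Subsingleton ↥(𝟙_ (Over (Spec (CommRingCat.of k)))).left :=
    inferInstanceAs (Subsingleton ↥(Spec (CommRingCat.of k)))
  have hfix : (conjAct G).IsFixedPt η[G] := fun T g => by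
    rw [← Hom.one_def, lift_conjAct, _root_.mul_one, mul_inv_cancel]
  obtain ⟨_, ⟨U, hU, rfl⟩, hxU, -⟩ :=
    G.left.isBasis_affineOpens.exists_subset_of_mem_open
      (Set.mem_univ (η[G].left (IsLocalRing.closedPoint k))) isOpen_univ
  obtain ⟨m, hm, Ms, i₁, i₂, ms, hms⟩ := exists_modules_fixesOver (conjAct G) η[G] hfix hU fun s => by
    rw [Subsingleton.elim s (IsLocalRing.closedPoint k)]; exact hxU
  haveI : IsNoetherianRing Γ(G.left, U) := IsLocallyNoetherian.component_noetherian ⟨U, hU⟩
  refine ⟨Ms, i₁, i₂, ms, fun R _ _ u => ⟨fun h => ?_, fun h => (hms R u).2 fun T' s y => ?_⟩⟩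
  swap
  · rw [lift_conjAct, h T' s y, mul_inv_cancel_right]
  obtain ⟨D, _, _, j, hj, hne, -, hfx⟩ := fixesOver_nhd (conjAct G) hU m u ((hms R u).1 h)
  rw [fixesOver_iff, lift_conjAct] at hfx
  have hcom : ∀ {T : Over (Spec (CommRingCat.of k))} (s : T ⟶ pt k R) (t : T ⟶ pt k D),
      (s ≫ u) * (t ≫ j) = (t ≫ j) * (s ≫ u) := fun {T} s t => by
    have e := congrArg (lift s t ≫ ·) hfx
    simp only [MonObj.comp_mul, GrpObj.comp_inv, lift_fst_assoc, lift_snd_assoc] at e
    exact mul_inv_eq_iff_eq_mul.1 e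
  let W := pt k D ⊗ pt k D
  let c : W ⟶ G := (fst _ _ ≫ j) * (snd _ _ ≫ j)
  have hcov : GrothLib.Chevalley.IsCover c := by
    have hce : c = (j ⊗ₘ j) ≫ μ[G] := by
      simp only [c, Hom.mul_def, W]
      rfl
    haveI : IsLocallyNoetherian G.left := LocallyOfFiniteType.isLocallyNoetherian G.hom
    haveI : Flat μ[G].left := GrothLib.GrpSchField.mul_property @Flat (GrothLib.DiagGrp.flat_of_field _)
    haveI : LocallyOfFiniteType μ[G].left := GrothLib.GrpSchField.mul_property @LocallyOfFiniteType ‹_›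
    haveI hjo : IsOpenImmersion (j ⊗ₘ j).left := by
      rw [Over.tensorHom_left]; infer_instance
    haveI : Flat c.left := by rw [hce, Over.comp_left]; infer_instance
    haveI : LocallyOfFinitePresentation c.left := by rw [hce, Over.comp_left]; infer_instance
    refine ⟨‹_›, ⟨fun g => ?_⟩, ‹_›⟩
    have hd : Dense (Set.range j.left) := (hj.base_open.isOpen_range).dense hne
    obtain ⟨q, hq₁, hq₂, hq₃⟩ := GrothLib.GrpSchField.exists_mul_mem_of_dense G hj.base_open.isOpen_range hd hd g
    have hq : q ∈ Set.range (j ⊗ₘ j).left := by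
      rw [Over.tensorHom_left, Scheme.Pullback.range_map]
      exact ⟨hq₁, hq₂⟩
    obtain ⟨q', rfl⟩ := hq
    exact ⟨q', by rw [hce, Over.comp_left, Scheme.Hom.comp_apply, hq₃]⟩
  obtain ⟨_, _, _⟩ := hcov
  haveI : Epi (pt k R ◁ c) :=
    GrothLib.Chevalley.epi_of_cover _ (GrothLib.FlatFactor.cover_whiskerLeft c (pt k R))
  have huniv : (fst (pt k R) G ≫ u) * snd (pt k R) G = snd (pt k R) G * (fst (pt k R) G ≫ u) := by
    rw [← cancel_epi (pt k R ◁ c), MonObj.comp_mul, MonObj.comp_mul, whiskerLeft_fst_assoc, whiskerLeft_snd]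
    simp only [c, MonObj.comp_mul, ← Category.assoc]
    rw [← _root_.mul_assoc, hcom, _root_.mul_assoc, hcom, _root_.mul_assoc]
  intro T' s y
  have e := congrArg (lift s y ≫ ·) huniv
  simp only [MonObj.comp_mul, lift_fst_assoc, lift_snd] at e
  exact e

end GrothLib.Repr
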