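import Groth.Agent.Lib.Repr.GLHom
import Groth.Agent.Lib.DiagGrp.Bihom
import Groth.Agent.Lib.Chevalley.GroupQuot
import Groth.Prelude.Def_AlgGrp

/-!
A quotient group whose kernel is the kernel of a family of modules is affine.
-/

universe u

open CategoryTheory CategoryTheory.Limits MonoidalCategory CartesianMonoidalCategory MonObj GrpObj
open AlgebraicGeometry VecGrp
open scoped TensorProduct

noncomputable section

namespace GrothLib.Repr

variable {k : Type u} [Field k]

theorem finiteType_GLsch (N : ℕ) : LocallyOfFiniteType (GLsch k N).hom :=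
  (HasRingHomProperty.Spec_iff (P := @LocallyOfFiniteType)
    (φ := CommRingCat.ofHom (algebraMap k (CoordGrp.GLn N k)))).2
    (RingHom.finiteType_algebraMap.2 (finiteType_GLn N))

theorem isAffine_GLsch (N : ℕ) : IsAffine (GLsch k N).left :=
  inferInstanceAs (IsAffine (Spec (CommRingCat.of (CoordGrp.GLn N k))))

/-- The quotient by the common kernel of a family of modules is affine. -/
theorem isAffine_quotient {G N Q : Over (Spec (CommRingCat.of k))} [GrpObj G] [GrpObj N] [GrpObj Q]
    [LocallyOfFiniteType G.hom] [QuasiCompact G.hom] [LocallyOfFiniteType Q.hom] [QuasiCompact Q.hom]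
    (n : N ⟶ G) (q : G ⟶ Q) [IsMonHom q] [Surjective q.left] [Flat q.left] (hq : AlgGrp.IsKernel n q)
    {I : Type u} {Ms : I → Type u} [∀ i, AddCommGroup (Ms i)] [∀ i, Module k (Ms i)] (ms : ∀ i, GMod G (Ms i))
    (h : ∀ (R : Type u) [CommRing R] [Algebra k R] (u : pt k R ⟶ G),
      (∀ i (x : Ms i), act (ms i) u x = (1 : R) ⊗ₜ[k] x) ↔ u ≫ q = 1) :
    IsAffine Q.left := by
  obtain ⟨D, ρ, hρm, hρ⟩ := exists_hom_detect ms
  haveI := hρm
  have : IsLocallyNoetherian Q.left := LocallyOfFiniteType.isLocallyNoetherian Q.hom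
  have : LocallyOfFiniteType q.left := by
    have : LocallyOfFiniteType (q.left ≫ Q.hom) := by rw [Over.w q]; infer_instance
    exact locallyOfFiniteType_of_comp q.left Q.hom
  have : LocallyOfFinitePresentation q.left := inferInstance
  obtain ⟨d, hd⟩ := GrothLib.DiagGrp.exists_desc q ρ fun T a b hab => hom_ext_pts fun R _ _ u => by
    have h1 : ((u ≫ a)⁻¹ * (u ≫ b)) ≫ q = 1 := by
      rw [MonObj.mul_comp, GrpObj.inv_comp, Category.assoc, Category.assoc, hab, inv_mul_cancel]
    have h2 := (hρ R _).2 ((h R _).2 h1)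
    rw [MonObj.mul_comp, GrpObj.inv_comp, Category.assoc, Category.assoc, inv_mul_eq_one] at h2
    exact h2
  have hqc : GrothLib.Chevalley.IsCover q := ⟨inferInstance, inferInstance, inferInstance⟩
  haveI : Epi (q ⊗ₘ q) := GrothLib.Chevalley.epi_of_cover _ (GrothLib.Chevalley.cover_tensor hqc hqc)
  haveI : IsMonHom d := GrothLib.GrpSchField.isMonHom_of_mul d (by
    rw [← cancel_epi (q ⊗ₘ q), ← Category.assoc, ← IsMonHom.mul_hom, Category.assoc, hd,
      IsMonHom.mul_hom, ← Category.assoc, MonoidalCategory.tensorHom_comp_tensorHom, hd])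
  haveI := finiteType_GLsch (k := k) D
  haveI := isAffine_GLsch (k := k) D
  -- the kernel of `d` is trivial
  have hker : ∀ (T : Over (Spec (CommRingCat.of k))) (z : T ⟶ Q), z ≫ d = 1 → z = 1 := by
    intro T z hz
    let T' : Over (Spec (CommRingCat.of k)) := Over.mk (pullback.fst z.left q.left ≫ T.hom)
    let c : T' ⟶ T := Over.homMk (pullback.fst z.left q.left) rfl
    let y : T' ⟶ G := Over.homMk (pullback.snd z.left q.left) (by
      show pullback.snd z.left q.left ≫ G.hom = pullback.fst z.left q.left ≫ T.hom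
      rw [← Over.w q, ← pullback.condition_assoc, Over.w z])
    haveI : Surjective c.left := inferInstanceAs (Surjective (pullback.fst z.left q.left))
    haveI : Flat c.left := inferInstanceAs (Flat (pullback.fst z.left q.left))
    haveI : LocallyOfFinitePresentation c.left :=
      inferInstanceAs (LocallyOfFinitePresentation (pullback.fst z.left q.left))
    haveI : Epi c := GrothLib.Chevalley.epi_of_cover c ⟨inferInstance, inferInstance, inferInstance⟩
    have hcy : y ≫ q = c ≫ z := Over.OverMorphism.ext pullback.condition.symm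
    rw [← cancel_epi c, ← hcy, MonObj.comp_one]
    refine hom_ext_pts fun R _ _ u => ?_
    rw [MonObj.comp_one, ← Category.assoc]
    refine (h R (u ≫ y)).1 ((hρ R (u ≫ y)).1 ?_)
    rw [← hd, Category.assoc, ← Category.assoc y, hcy, Category.assoc, hz, MonObj.comp_one,
      MonObj.comp_one]
  haveI : Mono d := ⟨fun {T} a b hab => inv_mul_eq_one.1 (hker T (a⁻¹ * b) (by
    rw [MonObj.mul_comp, GrpObj.inv_comp, hab, inv_mul_cancel]))⟩
  haveI := GrothLib.MonoHom.isClosedImmersion_left d
  exact isAffine_of_isAffineHom d.left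

end GrothLib.Repr
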