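import Groth.Agent.Lib.Repr.GmPts
import Groth.Agent.Lib.GrpSchField.Points
import Mathlib.RingTheory.Coalgebra.GroupLike

/-!
# Characters of an affine group over a field are its group-like units
-/

universe u

open CategoryTheory MonoidalCategory CartesianMonoidalCategory MonObj GrpObj AlgebraicGeometry VecGrp TensorProduct
open WithConv

noncomputable section

namespace GrothLib.Repr

variable {k : Type u} [Field k] {C : Type u} [CommRing C] [HopfAlgebra k C]

/-- The affine group scheme of a Hopf algebra. -/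
abbrev Aff (k : Type u) [Field k] (C : Type u) [CommRing C] [HopfAlgebra k C] : Over (Spec (CommRingCat.of k)) :=
  (Spec (CommRingCat.of C)).asOver (Spec (CommRingCat.of k))

theorem mapMulEquiv_eq_ptMap {R : Type u} [CommRing R] [Algebra k R] (f : WithConv (C →ₐ[k] R)) :
    (Spec.mapMulEquiv f : pt k R ⟶ Aff k C) = ptMap f.ofConv := Over.OverMorphism.ext rfl

/-- The character of `Spec C` given by a unit of `C`. -/
def charOfUnit (w : Cˣ) : Aff k C ⟶ Red.Gm (Spec (CommRingCat.of k)) := gmPt k w

theorem charOfUnit_surjective (φ : Aff k C ⟶ Red.Gm (Spec (CommRingCat.of k))) : ∃ w : Cˣ, charOfUnit w = φ :=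
  (gmPt k (R := C)).surjective φ

theorem charOfUnit_injective : Function.Injective (charOfUnit (k := k) (C := C)) :=
  (gmPt k (R := C)).injective

theorem comp_charOfUnit {R : Type u} [CommRing R] [Algebra k R] (f : WithConv (C →ₐ[k] R)) (w : Cˣ) :
    (Spec.mapMulEquiv f : pt k R ⟶ Aff k C) ≫ charOfUnit w = gmPt k (Units.map (f.ofConv : C →* R) w) := by
  rw [mapMulEquiv_eq_ptMap]
  exact gmPt_map k f.ofConv w

theorem ptMap_charOfUnit {C' : Type u} [CommRing C'] [HopfAlgebra k C'] (f : C →ₐ[k] C') (w : Cˣ) :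
    (ptMap f : Aff k C' ⟶ Aff k C) ≫ charOfUnit w = charOfUnit (Units.map (f : C →* C') w) :=
  gmPt_map k f w

theorem isGroupLike_of_isMonHom (w : Cˣ) [IsMonHom (charOfUnit (k := k) w)] : IsGroupLikeElem k (w : C) := by
  constructor
  · let e : WithConv (C →ₐ[k] k) ≃* (pt k k ⟶ Aff k C) := Spec.mapMulEquiv
    have h1 : (1 : pt k k ⟶ Aff k C) ≫ charOfUnit w = 1 := MonObj.one_comp _
    have h2 : gmPt k (Units.map ((1 : WithConv (C →ₐ[k] k)).ofConv : C →* k) w) = gmPt k 1 :=
      (comp_charOfUnit 1 w).symm.trans (((congrArg (· ≫ charOfUnit w) (map_one e)).trans h1).trans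
        (map_one (gmPt k (R := k))).symm)
    simpa [AlgHom.convOne_apply] using congrArg Units.val ((gmPt k (R := k)).injective h2)
  · let g₁ : WithConv (C →ₐ[k] C ⊗[k] C) := toConv Algebra.TensorProduct.includeLeft
    let g₂ : WithConv (C →ₐ[k] C ⊗[k] C) := toConv Algebra.TensorProduct.includeRight
    let e : WithConv (C →ₐ[k] C ⊗[k] C) ≃* (pt k (C ⊗[k] C) ⟶ Aff k C) := Spec.mapMulEquiv
    have hmul : (e (g₁ * g₂)) ≫ charOfUnit w = (e g₁ ≫ charOfUnit w) * (e g₂ ≫ charOfUnit w) :=
      (congrArg (· ≫ charOfUnit w) (map_mul e g₁ g₂)).trans (MonObj.mul_comp _ _ _)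
    have h2 := congrArg Units.val ((gmPt k (R := C ⊗[k] C)).injective
      (((comp_charOfUnit (g₁ * g₂) w).symm.trans (hmul.trans
        (congrArg₂ (· * ·) (comp_charOfUnit g₁ w) (comp_charOfUnit g₂ w)))).trans
        (map_mul (gmPt k (R := C ⊗[k] C)) _ _).symm))
    simp only [Units.coe_map, Units.val_mul, MonoidHom.coe_coe] at h2
    rw [AlgHom.convMul_apply] at h2
    refine Eq.trans ?_ (h2.trans (by simp [g₁, g₂]))
    symm
    induction Coalgebra.comul (R := k) (w : C) using TensorProduct.induction_on with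
    | zero => simp
    | tmul p q => simp [g₁, g₂]
    | add p q hp hq => simp only [map_add, hp, hq]

theorem isMonHom_charOfUnit (w : Cˣ) (hw : IsGroupLikeElem k (w : C)) : IsMonHom (charOfUnit (k := k) w) := by
  have hmul : ∀ (R : Type u) [CommRing R] [Algebra k R] (a b : pt k R ⟶ Aff k C),
      (a * b) ≫ charOfUnit w = (a ≫ charOfUnit w) * (b ≫ charOfUnit w) := by
    intro R _ _ a b
    let e : WithConv (C →ₐ[k] R) ≃* (pt k R ⟶ Aff k C) := Spec.mapMulEquiv
    obtain ⟨a, rfl⟩ := e.surjective a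
    obtain ⟨b, rfl⟩ := e.surjective b
    have hu : Units.map ((a * b).ofConv : C →* R) w = Units.map (a.ofConv : C →* R) w * Units.map (b.ofConv : C →* R) w := by
      refine Units.ext ?_
      simp only [Units.coe_map, Units.val_mul, MonoidHom.coe_coe]
      rw [AlgHom.convMul_apply]
      simp [hw.comul_eq_tmul_self]
    exact (congrArg (· ≫ charOfUnit w) (map_mul e a b).symm).trans ((comp_charOfUnit (a * b) w).trans
      (((congrArg (gmPt k) hu).trans (map_mul (gmPt k (R := R)) _ _)).trans
        (congrArg₂ (· * ·) (comp_charOfUnit a w).symm (comp_charOfUnit b w).symm)))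
  refine GrothLib.GrpSchField.isMonHom_of_mul _ (hom_ext_pts fun R _ _ u => ?_)
  have h1 := hmul R (u ≫ fst _ _) (u ≫ snd _ _)
  rw [Hom.mul_def, Hom.mul_def, ← comp_lift, lift_fst_snd, Category.comp_id] at h1
  rw [← Category.assoc, h1, ← lift_map_assoc, ← comp_lift, lift_fst_snd, Category.comp_id]

end GrothLib.Repr
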