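import Groth.Agent.Lib.Repr.Finite
import Groth.Agent.Lib.HMG.Embed
import Groth.Agent.Lib.MonoHom.ClosedImmersion

/-!
Homomorphisms to `GL_N` from module structures of a group of finite type over a field; affineness
of groups with a faithful family of modules.
-/

universe u

open CategoryTheory CategoryTheory.Limits MonoidalCategory CartesianMonoidalCategory MonObj GrpObj
open AlgebraicGeometry VecGrp WithConv
open scoped TensorProduct

noncomputable section

namespace GrothLib.Repr

variable {k : Type u} [Field k]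

local notation "S" => Spec (CommRingCat.of k)

/-- `GL_N` over the field. -/
abbrev GLsch (k : Type u) [Field k] (N : ℕ) : Over (Spec (CommRingCat.of k)) :=
  (Spec (CommRingCat.of (CoordGrp.GLn N k))).asOver (Spec (CommRingCat.of k))

instance finiteType_GLn (N : ℕ) : Algebra.FiniteType k (CoordGrp.GLn N k) :=
  haveI : Algebra.FiniteType k (CoordGrp.GLb N k) :=
    inferInstanceAs (Algebra.FiniteType k (MvPolynomial (CoordGrp.GLPoly.Idx N) k))
  Algebra.FiniteType.of_surjective (CoordGrp.GLn.mk N k) Ideal.Quotient.mk_surjective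

theorem mapMulEquiv_comp {A R R' : Type u} [CommRing A] [Bialgebra k A] [CommRing R] [Algebra k R]
    [CommRing R'] [Algebra k R'] (f : R →ₐ[k] R') (w : WithConv (A →ₐ[k] R)) :
    ptMap f ≫ Spec.mapMulEquiv w = Spec.mapMulEquiv (toConv (f.comp w.ofConv)) := by
  refine Over.OverMorphism.ext ?_
  exact LieS.specMap_comp w.ofConv.toRingHom f.toRingHom

/-- A natural multiplicative family of matrices on the points gives a homomorphism to `GL_N`. -/
theorem exists_hom_GL {G : Over (Spec (CommRingCat.of k))} [GrpObj G] {I : Type*} [Fintype I] [DecidableEq I]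
    (C : ∀ (R : Type u) [CommRing R] [Algebra k R], (pt k R ⟶ G) → Matrix I I R)
    (hnat : ∀ (R R' : Type u) [CommRing R] [Algebra k R] [CommRing R'] [Algebra k R'] (f : R →ₐ[k] R')
      (u : pt k R ⟶ G), (C R u).map f = C R' (ptMap f ≫ u))
    (hone : ∀ (R : Type u) [CommRing R] [Algebra k R], C R 1 = 1)
    (hmul : ∀ (R : Type u) [CommRing R] [Algebra k R] (u v : pt k R ⟶ G), C R (u * v) = C R u * C R v) :
    ∃ (N : ℕ) (ρ : G ⟶ GLsch k N), IsMonHom ρ ∧
      ∀ (R : Type u) [CommRing R] [Algebra k R] (u : pt k R ⟶ G), u ≫ ρ = 1 ↔ C R u = 1 := by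
  let e := Fintype.equivFin I
  let C' := fun (R : Type u) [CommRing R] [Algebra k R] (u : pt k R ⟶ G) => Matrix.reindexAlgEquiv R R e (C R u)
  have hC1 : ∀ (R : Type u) [CommRing R] [Algebra k R], C' R 1 = 1 := fun R _ _ => by simp [C', hone]
  have hCm : ∀ (R : Type u) [CommRing R] [Algebra k R] (u v : pt k R ⟶ G), C' R (u * v) = C' R u * C' R v :=
    fun R _ _ u v => by simp only [C', hmul, map_mul]
  have hCn : ∀ (R R' : Type u) [CommRing R] [Algebra k R] [CommRing R'] [Algebra k R'] (f : R →ₐ[k] R')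
      (u : pt k R ⟶ G), (C' R u).map f = C' R' (ptMap f ≫ u) := fun R R' _ _ _ _ f u => by
    ext i j
    simp [C', ← hnat, Matrix.coe_reindexAlgEquiv]
  have hdet : ∀ (R : Type u) [CommRing R] [Algebra k R] (u : pt k R ⟶ G), IsUnit (C' R u).det :=
    fun R _ _ u => Matrix.isUnit_det_of_right_inverse (B := C' R u⁻¹)
      (by rw [← hCm, mul_inv_cancel, hC1])
  let F := fun (R : Type u) [CommRing R] [Algebra k R] (u : pt k R ⟶ G) =>
    (Spec.mapMulEquiv (toConv (GrothLib.HMG.ofMat (k := k) (C' R u) (hdet R u))) : pt k R ⟶ GLsch k (Fintype.card I))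
  have hFn : ∀ (R R' : Type u) [CommRing R] [Algebra k R] [CommRing R'] [Algebra k R'] (f : R →ₐ[k] R')
      (u : pt k R ⟶ G), ptMap f ≫ F R u = F R' (ptMap f ≫ u) := fun R R' _ _ _ _ f u => by
    refine (mapMulEquiv_comp f _).trans (congrArg Spec.mapMulEquiv (congrArg toConv ?_))
    refine GrothLib.HMG.ext_mat ?_
    rw [GrothLib.HMG.mat_comp, ofConv_toConv, GrothLib.HMG.mat_ofMat, GrothLib.HMG.mat_ofMat, hCn]
  obtain ⟨ρ, hρ⟩ := exists_hom_of_natural F hFn
  have hFm : ∀ (R : Type u) [CommRing R] [Algebra k R] (u v : pt k R ⟶ G), F R (u * v) = F R u * F R v :=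
    fun R _ _ u v => by
    refine Eq.trans (congrArg Spec.mapMulEquiv (WithConv.ofConv_injective ?_)) (map_mul Spec.mapMulEquiv
      (toConv (GrothLib.HMG.ofMat (k := k) (C' R u) (hdet R u))) (toConv (GrothLib.HMG.ofMat (k := k) (C' R v) (hdet R v))))
    refine GrothLib.HMG.ext_mat ?_
    rw [ofConv_toConv, GrothLib.HMG.mat_ofMat, hCm]
    refine (congrArg₂ (· * ·) (GrothLib.HMG.mat_ofMat _ (hdet R u)).symm
      (GrothLib.HMG.mat_ofMat _ (hdet R v)).symm).trans ((GrothLib.HMG.mat_pmul (k := k)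
        (GrothLib.HMG.ofMat (k := k) (C' R u) (hdet R u)) (GrothLib.HMG.ofMat (k := k) (C' R v) (hdet R v))).symm.trans ?_)
    refine congrArg GrothLib.HMG.mat (AlgHom.ext fun x => ?_)
    exact (AlgHom.convMul_apply (toConv _) (toConv _) x).symm
  refine ⟨_, ρ, GrothLib.GrpSchField.isMonHom_of_mul _ (hom_ext_pts fun R _ _ p => ?_), fun R _ _ u => ?_⟩
  · rw [← GrothLib.GrpSchField.lift_fst_snd_comp p]
    generalize p ≫ fst G G = a
    generalize p ≫ snd G G = b
    rw [← Category.assoc, ← Hom.mul_def, hρ, lift_map_assoc, ← Hom.mul_def, hρ, hρ, hFm]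
    rfl
  · rw [hρ]
    constructor
    · intro h
      have h1 := congrArg GrothLib.HMG.mat (congrArg WithConv.ofConv
        (Spec.mapMulEquiv.injective (h.trans (map_one Spec.mapMulEquiv).symm)))
      rw [ofConv_toConv, GrothLib.HMG.mat_ofMat] at h1
      have h2 : C' R u = 1 := h1.trans GrothLib.HMG.mat_pone
      exact (Matrix.reindexAlgEquiv R R e).injective (h2.trans (map_one _).symm)
    · intro h
      refine Eq.trans (congrArg Spec.mapMulEquiv (WithConv.ofConv_injective ?_)) (map_one Spec.mapMulEquiv)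
      refine GrothLib.HMG.ext_mat ?_
      rw [ofConv_toConv, GrothLib.HMG.mat_ofMat]
      refine Eq.trans ?_ GrothLib.HMG.mat_pone.symm
      simp only [C', h, map_one]

variable {G : Over (Spec (CommRingCat.of k))} [GrpObj G] [LocallyOfFiniteType G.hom] [QuasiCompact G.hom]

/-- A family of modules has the same kernel, on points, as one homomorphism to `GL_N`. -/
theorem exists_hom_detect {I : Type u} {Ms : I → Type u} [∀ i, AddCommGroup (Ms i)]
    [∀ i, Module k (Ms i)] (ms : ∀ i, GMod G (Ms i)) :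
    ∃ (N : ℕ) (ρ : G ⟶ GLsch k N), IsMonHom ρ ∧
      ∀ (R : Type u) [CommRing R] [Algebra k R] (u : pt k R ⟶ G),
        u ≫ ρ = 1 ↔ ∀ i (x : Ms i), act (ms i) u x = (1 : R) ⊗ₜ[k] x := by
  classical
  obtain ⟨s, hs⟩ := exists_finset_detect ms
  choose Nsub hfin hst hmem using fun x : s => exists_stable (ms x.1.1) {x.1.2}
  choose d e φ he hφe hsum using fun x : s => @exists_dual_family k _ (Ms x.1.1) _ _ (Nsub x) (hfin x)
  let Cb := fun (R : Type u) [CommRing R] [Algebra k R] (u : pt k R ⟶ G) (x : s) =>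
    (Matrix.of fun a b => cf (φ x a) (act (ms x.1.1) u (e x b)) : Matrix (Fin (d x)) (Fin (d x)) R)
  have hexp : ∀ (R : Type u) [CommRing R] [Algebra k R] (u : pt k R ⟶ G) (x : s) (b : Fin (d x)),
      act (ms x.1.1) u (e x b) = ∑ c, Cb R u x c b • ((1 : R) ⊗ₜ[k] e x c) := fun R _ _ u x b =>
    (sum_cf_tmul (e x) (he x) (φ x) (hsum x) (hst x R u _ (he x b))).symm
  obtain ⟨N, ρ, hρm, hρ⟩ := exists_hom_GL (fun R _ _ u => Matrix.blockDiagonal' (Cb R u))
    (fun R R' _ _ _ _ f u => by
      rw [Matrix.blockDiagonal'_map _ _ (map_zero f)]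
      congr 1
      funext x
      ext a b
      simp [Cb, map_cf, Wmap_act])
    (fun R _ _ => by
      rw [← Matrix.blockDiagonal'_one]
      congr 1
      funext x
      ext a b
      simp [Cb, act_one, hφe, Matrix.one_apply])
    (fun R _ _ u v => by
      rw [← Matrix.blockDiagonal'_mul]
      congr 1
      funext x
      ext a b
      simp only [Matrix.mul_apply, Cb, Matrix.of_apply]
      rw [show act (ms x.1.1) (u * v) (e x b) = (ms x.1.1).ρ R u (act (ms x.1.1) v (e x b)) by
        simp only [act, map_mul, LinearEquiv.mul_apply]]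
      conv_lhs => rw [hexp R v x b, map_sum, map_sum]
      refine Finset.sum_congr rfl fun c _ => ?_
      rw [LinearEquiv.map_smul, LinearMap.map_smul, smul_eq_mul, mul_comm]
      rfl)
  refine ⟨N, ρ, hρm, fun R _ _ u => (hρ R u).trans ⟨fun h => hs R u fun x hx => ?_, fun h => ?_⟩⟩
  · have h' : Cb R u ⟨x, hx⟩ = 1 := congrFun (Matrix.blockDiagonal'_injective
      (h.trans Matrix.blockDiagonal'_one.symm)) ⟨x, hx⟩
    rw [← hsum ⟨x, hx⟩ x.2 (hmem ⟨x, hx⟩ x.2 (Finset.mem_singleton_self _))]
    simp only [act, TensorProduct.tmul_sum, map_sum, TensorProduct.tmul_smul]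
    refine Finset.sum_congr rfl fun b _ => ?_
    rw [← IsScalarTower.algebraMap_smul R, LinearEquiv.map_smul]
    congr 1
    refine (hexp R u ⟨x, hx⟩ b).trans ?_
    simp [h', Matrix.one_apply]
  · rw [← Matrix.blockDiagonal'_one]
    congr 1
    funext x
    ext a b
    simp [Cb, h, hφe, Matrix.one_apply]

/-- A group of finite type over a field with a faithful family of modules is affine. -/
theorem isAffine_of_faithful {I : Type u} {Ms : I → Type u} [∀ i, AddCommGroup (Ms i)]
    [∀ i, Module k (Ms i)] (ms : ∀ i, GMod G (Ms i))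
    (h : ∀ (R : Type u) [CommRing R] [Algebra k R] (u : pt k R ⟶ G),
      (∀ i (x : Ms i), act (ms i) u x = (1 : R) ⊗ₜ[k] x) → u = 1) :
    IsAffine G.left := by
  obtain ⟨N, ρ, hρm, hρ⟩ := exists_hom_detect ms
  haveI : Mono ρ := ⟨fun {T} a b hab => hom_ext_pts fun R _ _ u => by
    refine inv_mul_eq_one.1 (h R _ ((hρ R ((u ≫ a)⁻¹ * (u ≫ b))).1 ?_))
    rw [MonObj.mul_comp, GrpObj.inv_comp, Category.assoc, Category.assoc, hab, inv_mul_cancel]⟩
  haveI : LocallyOfFiniteType (GLsch k N).hom :=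
    (HasRingHomProperty.Spec_iff (P := @LocallyOfFiniteType)
      (φ := CommRingCat.ofHom (algebraMap k (CoordGrp.GLn N k)))).2
      (RingHom.finiteType_algebraMap.2 (inferInstance : Algebra.FiniteType k (CoordGrp.GLn N k)))
  haveI : IsAffine (GLsch k N).left :=
    inferInstanceAs (IsAffine (Spec (CommRingCat.of (CoordGrp.GLn N k))))
  haveI := GrothLib.MonoHom.isClosedImmersion_left ρ
  exact isAffine_of_isAffineHom ρ.left

end GrothLib.Repr
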