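import Groth.Agent.Lib.Repr.GmChar
import Groth.Agent.Lib.Repr.AffinePts
import Mathlib.RingTheory.Coalgebra.Basic

/-!
# Homomorphisms of affine groups over a field are maps of Hopf algebras
-/

universe u

open CategoryTheory MonoidalCategory CartesianMonoidalCategory MonObj GrpObj AlgebraicGeometry VecGrp TensorProduct
open WithConv

noncomputable section

namespace GrothLib.Repr

variable {k : Type u} [Field k] {B C : Type u} [CommRing B] [HopfAlgebra k B] [CommRing C] [HopfAlgebra k C]

theorem convMul_includes (b : B) :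
    (toConv (Algebra.TensorProduct.includeLeft : B →ₐ[k] B ⊗[k] B) *
      toConv (Algebra.TensorProduct.includeRight : B →ₐ[k] B ⊗[k] B)).ofConv b = Coalgebra.comul (R := k) b := by
  rw [AlgHom.convMul_apply]
  induction Coalgebra.comul (R := k) b using TensorProduct.induction_on with
  | zero => simp
  | tmul p q => simp
  | add p q hp hq => simp only [map_add, hp, hq]

/-- A commutative affine group has a cocommutative Hopf algebra. -/
theorem isCocomm_of_comm (hc : ∀ (T : Over (Spec (CommRingCat.of k))) (a b : T ⟶ Aff k B), a * b = b * a) :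
    Coalgebra.IsCocomm k B := by
  let g₁ : WithConv (B →ₐ[k] B ⊗[k] B) := toConv Algebra.TensorProduct.includeLeft
  let g₂ : WithConv (B →ₐ[k] B ⊗[k] B) := toConv Algebra.TensorProduct.includeRight
  let e : WithConv (B →ₐ[k] B ⊗[k] B) ≃* (pt k (B ⊗[k] B) ⟶ Aff k B) := Spec.mapMulEquiv
  have h : g₂ * g₁ = g₁ * g₂ := e.injective ((map_mul e _ _).trans ((hc _ _ _).trans (map_mul e _ _).symm))
  refine ⟨LinearMap.ext fun b => ?_⟩
  have h1 := congrArg (fun t : WithConv (B →ₐ[k] B ⊗[k] B) => t.ofConv b) h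
  rw [convMul_includes, AlgHom.convMul_apply] at h1
  refine Eq.trans ?_ h1
  change TensorProduct.comm k B B (Coalgebra.comul (R := k) b) = _
  induction Coalgebra.comul (R := k) b using TensorProduct.induction_on with
  | zero => simp
  | tmul p q => simp [g₁, g₂]
  | add p q hp hq => simp only [map_add, hp, hq]

/-- The morphism of affine groups induced by an algebra map. -/
def affMap (π : B →ₐ[k] C) : Aff k C ⟶ Aff k B := ptMap π

theorem mapMulEquiv_comp_ptMap {R : Type u} [CommRing R] [Algebra k R] (f : WithConv (C →ₐ[k] R)) (π : B →ₐ[k] C) :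
    (Spec.mapMulEquiv f : pt k R ⟶ Aff k C) ≫ affMap π =
      (Spec.mapMulEquiv (toConv (f.ofConv.comp π)) : pt k R ⟶ Aff k B) := by
  rw [mapMulEquiv_eq_ptMap, mapMulEquiv_eq_ptMap]
  exact (ptMap_comp π f.ofConv).symm

/-- A homomorphism of affine groups is induced by a map of bialgebras. -/
theorem exists_bialgHom (i : Aff k C ⟶ Aff k B) [IsMonHom i] :
    ∃ π : B →ₐc[k] C, i = affMap (π : B →ₐ[k] C) := by
  obtain ⟨π, hπ⟩ : ∃ π : B →ₐ[k] C, i = affMap π := exists_ptMap i
  subst hπ
  refine ⟨BialgHom.ofAlgHom π ?_ ?_, rfl⟩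
  · let e : WithConv (C →ₐ[k] k) ≃* (pt k k ⟶ Aff k C) := Spec.mapMulEquiv
    let e' : WithConv (B →ₐ[k] k) ≃* (pt k k ⟶ Aff k B) := Spec.mapMulEquiv
    have h : e' (toConv ((1 : WithConv (C →ₐ[k] k)).ofConv.comp π)) = e' 1 :=
      (mapMulEquiv_comp_ptMap 1 π).symm.trans (((congrArg (· ≫ affMap π) (map_one e)).trans
        (MonObj.one_comp _)).trans (map_one e').symm)
    refine AlgHom.ext fun b => ?_
    have h1 := congrArg (fun t : WithConv (B →ₐ[k] k) => t.ofConv b) (e'.injective h)
    simpa [AlgHom.convOne_apply] using h1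
  · let g₁ : WithConv (C →ₐ[k] C ⊗[k] C) := toConv Algebra.TensorProduct.includeLeft
    let g₂ : WithConv (C →ₐ[k] C ⊗[k] C) := toConv Algebra.TensorProduct.includeRight
    let e : WithConv (C →ₐ[k] C ⊗[k] C) ≃* (pt k (C ⊗[k] C) ⟶ Aff k C) := Spec.mapMulEquiv
    let e' : WithConv (B →ₐ[k] C ⊗[k] C) ≃* (pt k (C ⊗[k] C) ⟶ Aff k B) := Spec.mapMulEquiv
    have h : e' (toConv ((g₁ * g₂).ofConv.comp π)) =
        e' (toConv (g₁.ofConv.comp π) * toConv (g₂.ofConv.comp π)) :=
      (mapMulEquiv_comp_ptMap (g₁ * g₂) π).symm.trans ((((congrArg (· ≫ affMap π)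
        (map_mul e g₁ g₂)).trans (MonObj.mul_comp _ _ _)).trans
        (congrArg₂ (· * ·) (mapMulEquiv_comp_ptMap g₁ π) (mapMulEquiv_comp_ptMap g₂ π))).trans (map_mul e' _ _).symm)
    refine AlgHom.ext fun b => ?_
    have h1 := congrArg (fun t : WithConv (B →ₐ[k] C ⊗[k] C) => t.ofConv b) (e'.injective h)
    simp only [WithConv.ofConv_toConv, AlgHom.comp_apply] at h1
    rw [convMul_includes, AlgHom.convMul_apply] at h1
    change Algebra.TensorProduct.map π π (Coalgebra.comul (R := k) b) = Coalgebra.comul (R := k) (π b)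
    rw [h1]
    induction Coalgebra.comul (R := k) b using TensorProduct.induction_on with
    | zero => simp
    | tmul p q => simp [g₁, g₂]
    | add p q hp hq => simp only [map_add, hp, hq]

end GrothLib.Repr
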