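import Groth.Agent.Lib.Repr.GLHom
import Groth.Agent.Lib.SchEffective.BaseChangeSections
import Groth.Agent.Lib.DiagGrp.TrivOver
import Groth.Prelude.Def_AlgGrp
import Mathlib.Algebra.Category.Ring.Constructions

/-!
An action on a quasi-compact quasi-separated scheme over a field gives a module structure on its
functions.
-/

universe u

open CategoryTheory CategoryTheory.Limits MonoidalCategory CartesianMonoidalCategory MonObj GrpObj
open AlgebraicGeometry VecGrp
open scoped TensorProduct

noncomputable section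

namespace GrothLib.Repr

variable {k : Type u} [Field k]

/-- The functions of a scheme over the field. -/
def Fn (X : Over (Spec (CommRingCat.of k))) : Type u := Γ(X.left, ⊤)

instance (X : Over (Spec (CommRingCat.of k))) : CommRing (Fn X) :=
  inferInstanceAs (CommRing Γ(X.left, ⊤))

instance (X : Over (Spec (CommRingCat.of k))) : Algebra k (Fn X) :=
  RingHom.toAlgebra ((Scheme.ΓSpecIso (CommRingCat.of k)).inv ≫ X.hom.appTop).hom

/-- The pullback of functions. -/
def fnMap {X Y : Over (Spec (CommRingCat.of k))} (f : X ⟶ Y) : Fn Y →ₐ[k] Fn X :=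
  { f.left.appTop.hom with
    commutes' := fun r => by
      change ((Scheme.ΓSpecIso (CommRingCat.of k)).inv ≫ Y.hom.appTop ≫ f.left.appTop).hom r =
        ((Scheme.ΓSpecIso (CommRingCat.of k)).inv ≫ X.hom.appTop).hom r
      rw [← Scheme.Hom.comp_appTop, Over.w f] }

theorem fnMap_apply {X Y : Over (Spec (CommRingCat.of k))} (f : X ⟶ Y) (a : Fn Y) :
    fnMap f a = f.left.appTop.hom a := rfl

theorem fnMap_comp {X Y Z : Over (Spec (CommRingCat.of k))} (f : X ⟶ Y) (g : Y ⟶ Z) :
    fnMap (f ≫ g) = (fnMap f).comp (fnMap g) := by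
  refine AlgHom.ext fun a => ?_
  change (f ≫ g).left.appTop.hom a = (g.left.appTop ≫ f.left.appTop).hom a
  rw [← Scheme.Hom.comp_appTop]
  rfl

theorem fnMap_id (X : Over (Spec (CommRingCat.of k))) : fnMap (𝟙 X) = AlgHom.id k (Fn X) := by
  refine AlgHom.ext fun a => ?_
  change (𝟙 X.left : X.left ⟶ X.left).appTop.hom a = a
  rw [Scheme.Hom.id_appTop]
  rfl

variable {R R' : Type u} [CommRing R] [Algebra k R] [CommRing R'] [Algebra k R']

variable (k R) in
/-- The functions of an affine test scheme. -/
def fnPt : R →ₐ[k] Fn (pt k R) :=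
  { (Scheme.ΓSpecIso (CommRingCat.of R)).inv.hom with
    commutes' := fun r => by
      have h := congr($(Scheme.ΓSpecIso_inv_naturality (CommRingCat.ofHom (algebraMap k R))).hom r)
      exact h }

theorem fnMap_ptMap (f : R →ₐ[k] R') (r : R) : fnMap (ptMap f) (fnPt k R r) = fnPt k R' (f r) := by
  have h := congr($(Scheme.ΓSpecIso_inv_naturality (CommRingCat.ofHom f.toRingHom)).hom r)
  exact h.symm

variable (R) in
/-- The comparison map to the functions of a product with an affine test scheme. -/
def theta (X : Over (Spec (CommRingCat.of k))) : R ⊗[k] Fn X →ₐ[k] Fn (X ⊗ pt k R) :=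
  Algebra.TensorProduct.lift ((fnMap (snd X (pt k R))).comp (fnPt k R)) (fnMap (fst X (pt k R)))
    fun _ _ => Commute.all _ _

theorem theta_tmul (X : Over (Spec (CommRingCat.of k))) (r : R) (a : Fn X) :
    theta R X (r ⊗ₜ[k] a) = fnMap (snd X (pt k R)) (fnPt k R r) * fnMap (fst X (pt k R)) a :=
  Algebra.TensorProduct.lift_tmul _ _ _ _ _

theorem bijective_lift_of_isPushout {M D : Type u} [CommRing M] [Algebra k M] [CommRing D] [Algebra k D]
    (iR : R →ₐ[k] D) (iM : M →ₐ[k] D)
    (h : IsPushout (CommRingCat.ofHom (algebraMap k R)) (CommRingCat.ofHom (algebraMap k M))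
      (CommRingCat.ofHom iR.toRingHom) (CommRingCat.ofHom iM.toRingHom)) :
    Function.Bijective (Algebra.TensorProduct.lift iR iM fun _ _ => Commute.all _ _) := by
  have h₂ := CommRingCat.isPushout_tensorProduct k R M
  let L := Algebra.TensorProduct.lift iR iM fun _ _ => Commute.all _ _
  have hi : CommRingCat.ofHom L.toRingHom = (h₂.isoIsPushout _ _ h).hom := by
    refine h₂.hom_ext ?_ ?_
    · rw [IsPushout.inl_isoIsPushout_hom]
      refine CommRingCat.hom_ext (RingHom.ext fun r => ?_)
      exact (Algebra.TensorProduct.lift_tmul iR iM (fun _ _ => Commute.all _ _) _ _).trans (by rw [map_one, _root_.mul_one]; rfl)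
    · rw [IsPushout.inr_isoIsPushout_hom]
      refine CommRingCat.hom_ext (RingHom.ext fun a => ?_)
      exact (Algebra.TensorProduct.lift_tmul iR iM (fun _ _ => Commute.all _ _) _ _).trans (by rw [map_one, _root_.one_mul]; rfl)
  have h3 := ConcreteCategory.bijective_of_isIso (h₂.isoIsPushout _ _ h).hom
  rw [← hi] at h3
  exact h3

theorem bijective_theta (X : Over (Spec (CommRingCat.of k))) [QuasiCompact X.hom] [QuasiSeparated X.hom] :
    Function.Bijective (theta R X) := by
  have : CompactSpace X.left := QuasiCompact.compactSpace_of_compactSpace X.hom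
  have : QuasiSeparatedSpace X.left := quasiSeparatedSpace_of_quasiSeparated X.hom
  have : Flat (pt k R).hom := GrothLib.DiagGrp.flat_of_field _
  have : IsAffine (pt k R).left := inferInstanceAs (IsAffine (Spec (CommRingCat.of R)))
  have h₁ : IsPushout (CommRingCat.ofHom (algebraMap k R)) (CommRingCat.ofHom (algebraMap k (Fn X)))
      (CommRingCat.ofHom ((fnMap (snd X (pt k R))).comp (fnPt k R)).toRingHom)
      (CommRingCat.ofHom (fnMap (fst X (pt k R))).toRingHom) := by
    refine (GrothLib.SchEffective.isPushout_appTop (pt k R).hom X.hom).flip.of_iso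
      (Scheme.ΓSpecIso (CommRingCat.of k)) (Scheme.ΓSpecIso (CommRingCat.of R)) (Iso.refl _) (Iso.refl _)
      ?_ ?_ ?_ ?_
    · exact (Scheme.ΓSpecIso_naturality (CommRingCat.ofHom (algebraMap k R)))
    · change X.hom.appTop ≫ 𝟙 _ = _ ≫ _
      rw [Category.comp_id]
      exact (Iso.hom_inv_id_assoc (Scheme.ΓSpecIso (CommRingCat.of k)) _).symm
    · change _ ≫ 𝟙 _ = _ ≫ _
      rw [Category.comp_id]
      exact (Iso.hom_inv_id_assoc (Scheme.ΓSpecIso (CommRingCat.of R)) _).symm
    · change _ ≫ 𝟙 _ = 𝟙 _ ≫ _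
      rw [Category.comp_id, Category.id_comp]
      rfl
  exact bijective_lift_of_isPushout _ _ h₁

section Action

variable {G X : Over (Spec (CommRingCat.of k))} [GrpObj G] (a : AlgGrp.Action G X)

/-- The translation of `X × Spec R` by a point. -/
def shift (u : pt k R ⟶ G) : X ⊗ pt k R ⟶ X ⊗ pt k R :=
  lift (lift (snd X (pt k R) ≫ u) (fst X (pt k R)) ≫ a.act) (snd X (pt k R))

theorem lift_act_mul {T : Over (Spec (CommRingCat.of k))} (g h : T ⟶ G) (x : T ⟶ X) :
    lift g (lift h x ≫ a.act) ≫ a.act = lift (g * h) x ≫ a.act := by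
  have e := congrArg (lift (lift g h) x ≫ ·) a.mul_act
  simp only [lift_whiskerRight_assoc, lift_lift_associator_hom_assoc, lift_whiskerLeft_assoc,
    ← Hom.mul_def] at e
  exact e.symm

theorem lift_one_act {T : Over (Spec (CommRingCat.of k))} (x : T ⟶ X) :
    lift (1 : T ⟶ G) x ≫ a.act = x := by
  have e := congrArg (lift (toUnit T) x ≫ ·) a.one_act
  simpa only [lift_whiskerRight_assoc, ← Hom.one_def, lift_leftUnitor_hom] using e

theorem shift_fst (u : pt k R ⟶ G) :
    shift a u ≫ fst _ _ = lift (snd X (pt k R) ≫ u) (fst X (pt k R)) ≫ a.act := lift_fst _ _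

theorem shift_snd (u : pt k R ⟶ G) : shift a u ≫ snd _ _ = snd X (pt k R) := lift_snd _ _

theorem shift_comp_shift (u v : pt k R ⟶ G) : shift a u ≫ shift a v = shift a (v * u) := by
  refine CartesianMonoidalCategory.hom_ext _ _ ?_ ?_
  · rw [Category.assoc, shift_fst, shift_fst, ← Category.assoc, comp_lift, shift_fst, ← Category.assoc,
      shift_snd, lift_act_mul, MonObj.comp_mul]
  · rw [Category.assoc, shift_snd, shift_snd, shift_snd]

theorem shift_one : shift a (1 : pt k R ⟶ G) = 𝟙 (X ⊗ pt k R) := by
  refine CartesianMonoidalCategory.hom_ext _ _ ?_ ?_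
  · rw [shift_fst, MonObj.comp_one, lift_one_act, Category.id_comp]
  · rw [shift_snd, Category.id_comp]

theorem whisker_shift (f : R →ₐ[k] R') (u : pt k R ⟶ G) :
    (X ◁ ptMap f) ≫ shift a u = shift a (ptMap f ≫ u) ≫ (X ◁ ptMap f) := by
  refine CartesianMonoidalCategory.hom_ext _ _ ?_ ?_
  · rw [Category.assoc, Category.assoc, shift_fst, whiskerLeft_fst, shift_fst, ← Category.assoc, comp_lift,
      whiskerLeft_fst, whiskerLeft_snd_assoc]
  · rw [Category.assoc, Category.assoc, shift_snd, whiskerLeft_snd, ← Category.assoc, shift_snd]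

variable [QuasiCompact X.hom] [QuasiSeparated X.hom]

variable (R X) in
/-- The functions on a product with an affine test scheme. -/
def thetaEquiv : R ⊗[k] Fn X ≃ₐ[k] Fn (X ⊗ pt k R) :=
  AlgEquiv.ofBijective (theta R X) (bijective_theta X)

theorem thetaEquiv_apply (y : R ⊗[k] Fn X) : thetaEquiv R X y = theta R X y := rfl

/-- The effect of a translation on functions. -/
def phi (u : pt k R ⟶ G) : W k (Fn X) R →ₗ[R] W k (Fn X) R where
  toFun y := (thetaEquiv R X).symm (fnMap (shift a u) (thetaEquiv R X y))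
  map_add' y z := by simp only [map_add]
  map_smul' r y := by
    have e : r • y = (r ⊗ₜ[k] (1 : Fn X)) * y := by
      induction y using TensorProduct.induction_on with
      | zero => simp
      | tmul b m => rw [Algebra.TensorProduct.tmul_mul_tmul, _root_.one_mul, TensorProduct.smul_tmul', smul_eq_mul]
      | add c d hc hd => rw [smul_add, hc, hd, mul_add]
    have e' : ∀ z : R ⊗[k] Fn X, r • z = (r ⊗ₜ[k] (1 : Fn X)) * z := fun z => by
      induction z using TensorProduct.induction_on with
      | zero => simp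
      | tmul b m => rw [Algebra.TensorProduct.tmul_mul_tmul, _root_.one_mul, TensorProduct.smul_tmul', smul_eq_mul]
      | add c d hc hd => rw [smul_add, hc, hd, mul_add]
    rw [e, RingHom.id_apply, e']
    rw [map_mul, map_mul, map_mul]
    congr 1
    rw [AlgEquiv.symm_apply_eq, thetaEquiv_apply, theta_tmul, map_one, _root_.mul_one, ← AlgHom.comp_apply,
      ← fnMap_comp, shift_snd]

theorem phi_apply (u : pt k R ⟶ G) (y : W k (Fn X) R) :
    thetaEquiv R X (phi a u y) = fnMap (shift a u) (thetaEquiv R X y) :=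
  (thetaEquiv R X).apply_symm_apply _

theorem phi_one (y : W k (Fn X) R) : phi a (1 : pt k R ⟶ G) y = y := by
  apply (thetaEquiv R X).injective
  rw [phi_apply, shift_one, fnMap_id, AlgHom.id_apply]

theorem phi_phi (u v : pt k R ⟶ G) (y : W k (Fn X) R) : phi a u (phi a v y) = phi a (v * u) y := by
  apply (thetaEquiv R X).injective
  rw [phi_apply, phi_apply, phi_apply, ← AlgHom.comp_apply, ← fnMap_comp, shift_comp_shift]

omit [QuasiCompact X.hom] [QuasiSeparated X.hom] in
theorem fnMap_whisker_theta (f : R →ₐ[k] R') (y : W k (Fn X) R) :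
    fnMap (X ◁ ptMap f) (theta R X y) = theta R' X (Wmap f y) := by
  induction y using TensorProduct.induction_on with
  | zero => simp
  | tmul r m =>
    rw [theta_tmul, map_mul, Wmap_tmul, theta_tmul, ← AlgHom.comp_apply, ← fnMap_comp, whiskerLeft_snd,
      fnMap_comp, AlgHom.comp_apply, fnMap_ptMap, ← AlgHom.comp_apply (fnMap _) (fnMap (fst X (pt k R))),
      ← fnMap_comp, whiskerLeft_fst]
  | add c d hc hd => simp only [map_add, hc, hd]

/-- The module structure on functions given by an action. -/
def fnGMod : GMod G (Fn X) where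
  ρ R _ _ :=
    { toFun := fun u =>
        { phi a u⁻¹ with
          invFun := phi a u
          left_inv := fun y => by
            show phi a u (phi a u⁻¹ y) = y
            rw [phi_phi, inv_mul_cancel, phi_one]
          right_inv := fun y => by
            show phi a u⁻¹ (phi a u y) = y
            rw [phi_phi, mul_inv_cancel, phi_one] }
      map_one' := LinearEquiv.ext fun y => by
        show phi a (1 : pt k R ⟶ G)⁻¹ y = y
        rw [inv_one, phi_one]
      map_mul' := fun u v => LinearEquiv.ext fun y => by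
        show phi a (u * v)⁻¹ y = phi a u⁻¹ (phi a v⁻¹ y)
        rw [phi_phi, _root_.mul_inv_rev] }
  naturality {R R'} _ _ _ _ f u y := by
    show Wmap f (phi a u⁻¹ y) = phi a (ptMap f ≫ u)⁻¹ (Wmap f y)
    apply (thetaEquiv R' X).injective
    rw [phi_apply, thetaEquiv_apply, thetaEquiv_apply, ← fnMap_whisker_theta, ← fnMap_whisker_theta,
      show theta R X (phi a u⁻¹ y) = fnMap (shift a u⁻¹) (theta R X y) from phi_apply a u⁻¹ y,
      ← AlgHom.comp_apply, ← fnMap_comp, whisker_shift, GrpObj.comp_inv, fnMap_comp, AlgHom.comp_apply]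

/-- A point fixes every function exactly when its translation respects them. -/
theorem act_fnGMod_eq_iff (u : pt k R ⟶ G) (x : Fn X) :
    act (fnGMod a) u x = (1 : R) ⊗ₜ[k] x ↔
      fnMap (lift (snd X (pt k R) ≫ u⁻¹) (fst X (pt k R)) ≫ a.act) x = fnMap (fst X (pt k R)) x := by
  show phi a u⁻¹ ((1 : R) ⊗ₜ[k] x) = _ ↔ _
  rw [← (thetaEquiv R X).injective.eq_iff, phi_apply, thetaEquiv_apply, theta_tmul, map_one, map_one,
    _root_.one_mul, ← AlgHom.comp_apply, ← fnMap_comp, shift_fst]

/-- For an affine scheme, a point fixing all functions acts trivially. -/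
theorem act_trivial_of_affine [IsAffine X.left] (u : pt k R ⟶ G)
    (h : ∀ x : Fn X, act (fnGMod a) u x = (1 : R) ⊗ₜ[k] x) {T : Over (Spec (CommRingCat.of k))}
    (t : T ⟶ pt k R) (x : T ⟶ X) : lift (t ≫ u) x ≫ a.act = x := by
  have e : lift (snd X (pt k R) ≫ u⁻¹) (fst X (pt k R)) ≫ a.act = fst X (pt k R) := by
    refine Over.OverMorphism.ext (ext_of_isAffine ?_)
    ext y
    exact (act_fnGMod_eq_iff a u y).1 (h y)
  have e₂ : shift a u⁻¹ = 𝟙 _ :=
    CartesianMonoidalCategory.hom_ext _ _ (by rw [shift_fst, e, Category.id_comp])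
      (by rw [shift_snd, Category.id_comp])
  have e₃ : shift a u = 𝟙 _ := by
    have := shift_comp_shift a u⁻¹ u
    rwa [mul_inv_cancel, shift_one, e₂, Category.id_comp] at this
  have e₄ := congrArg (fun s => lift x t ≫ s ≫ fst X (pt k R)) e₃
  simpa only [shift_fst, Category.id_comp, lift_fst, ← Category.assoc, comp_lift, lift_snd] using e₄

end Action

end GrothLib.Repr
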