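import Groth.Prelude.Def_VecGrp
import Mathlib.LinearAlgebra.TensorProduct.Basis
import Mathlib.LinearAlgebra.Dual.Lemmas

/-!
Coefficients of elements of `R ⊗ M` over a field.
-/

universe u v

open scoped TensorProduct
open VecGrp

noncomputable section

namespace GrothLib.Repr

variable {k : Type u} [Field k] {M : Type v} [AddCommGroup M] [Module k M]
  {R R' : Type u} [CommRing R] [Algebra k R] [CommRing R'] [Algebra k R']

/-- The coefficient of a linear form. -/
def cf (φ : Module.Dual k M) : W k M R →ₗ[R] R :=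
  (TensorProduct.AlgebraTensorModule.rid k R R).toLinearMap ∘ₗ φ.baseChange R

@[simp]
theorem cf_tmul (φ : Module.Dual k M) (r : R) (m : M) : cf φ (r ⊗ₜ[k] m) = φ m • r := by
  simp [cf]

theorem map_cf (f : R →ₐ[k] R') (φ : Module.Dual k M) (y : W k M R) :
    f (cf φ y) = cf φ (Wmap f y) := by
  induction y using TensorProduct.induction_on with
  | zero => simp
  | tmul r m => simp
  | add a b ha hb => simp only [map_add, ha, hb]

theorem eq_zero_of_cf {y : W k M R} (h : ∀ φ : Module.Dual k M, cf φ y = 0) : y = 0 := by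
  classical
  let b := Module.Free.chooseBasis k M
  have e : ∀ (z : W k M R) i, TensorProduct.equivFinsuppOfBasisRight b z i = cf (b.coord i) z := by
    intro z i
    induction z using TensorProduct.induction_on with
    | zero => simp
    | tmul r m => rw [TensorProduct.equivFinsuppOfBasisRight_apply_tmul_apply, cf_tmul]; rfl
    | add a c ha hc => simp only [map_add, Finsupp.add_apply, ha, hc]
  apply (TensorProduct.equivFinsuppOfBasisRight b).injective
  ext i
  rw [e, h, map_zero, Finsupp.zero_apply]

theorem ext_cf {y z : W k M R} (h : ∀ φ : Module.Dual k M, cf φ y = cf φ z) : y = z :=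
  sub_eq_zero.1 (eq_zero_of_cf fun φ => by rw [map_sub, h, sub_self])

/-- The contraction with a linear form on the coefficient algebra. -/
def contr (ψ : Module.Dual k R) : W k M R →ₗ[k] M :=
  (TensorProduct.lid k M).toLinearMap ∘ₗ ψ.rTensor M

@[simp]
theorem contr_tmul (ψ : Module.Dual k R) (r : R) (m : M) : contr ψ (r ⊗ₜ[k] m) = ψ r • m := by
  simp [contr]

theorem apply_cf (ψ : Module.Dual k R) (φ : Module.Dual k M) (y : W k M R) :
    ψ (cf φ y) = φ (contr ψ y) := by
  induction y using TensorProduct.induction_on with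
  | zero => simp
  | tmul r m => simp [mul_comm]
  | add a b ha hb => simp only [map_add, ha, hb]

theorem apply_contr {V : Type*} [AddCommGroup V] [Module k V] (f : M →ₗ[k] V) (ψ : Module.Dual k R)
    (y : W k M R) : f (contr ψ y) = contr ψ (f.lTensor R y) := by
  induction y using TensorProduct.induction_on with
  | zero => simp
  | tmul r m => simp
  | add a b ha hb => simp only [map_add, ha, hb]

/-- The element lies in the base change of the subspace. -/
def InSub (N : Submodule k M) (y : W k M R) : Prop :=
  ∀ φ : Module.Dual k M, N ≤ LinearMap.ker φ → cf φ y = 0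

theorem inSub_of_contr {N : Submodule k M} {y : W k M R} (h : ∀ ψ : Module.Dual k R, contr ψ y ∈ N) :
    InSub N y := fun φ hφ => (Module.forall_dual_apply_eq_zero_iff k _).1 fun ψ => by
  rw [apply_cf]
  exact hφ (h ψ)

theorem inSub_one_tmul_iff [Nontrivial R] {N : Submodule k M} {v : M} :
    InSub N ((1 : R) ⊗ₜ[k] v) ↔ v ∈ N := by
  refine ⟨fun h => ?_, fun h φ hφ => by simp [show φ v = 0 from hφ h]⟩
  by_contra hv
  obtain ⟨φ, h1, h2⟩ := Submodule.exists_dual_map_eq_bot_of_notMem hv inferInstance
  have hφ : N ≤ LinearMap.ker φ := fun x hx => by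
    have := Submodule.mem_map_of_mem (f := φ) hx
    rwa [h2] at this
  have := h φ hφ
  rw [cf_tmul, Algebra.smul_def, mul_one] at this
  exact h1 ((algebraMap k R).injective (this.trans (map_zero _).symm))

/-- A finite family of vectors with dual forms spans the base change of its span. -/
theorem sum_cf_tmul {ι : Type*} [Fintype ι] {N : Submodule k M} (e : ι → M) (he : ∀ i, e i ∈ N)
    (φ : ι → Module.Dual k M) (hφ : ∀ x ∈ N, ∑ i, φ i x • e i = x) {y : W k M R} (hy : InSub N y) :
    ∑ i, cf (φ i) y • ((1 : R) ⊗ₜ[k] e i) = y := by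
  refine ext_cf fun χ => ?_
  rw [map_sum]
  have h := hy (χ - ∑ i, χ (e i) • φ i) fun x hx => by
    rw [LinearMap.mem_ker, LinearMap.sub_apply, sub_eq_zero]
    conv_lhs => rw [← hφ x hx]
    simp [map_sum, mul_comm]
  have hlin : cf (R := R) (χ - ∑ i, χ (e i) • φ i) y = cf χ y - ∑ i, χ (e i) • cf (φ i) y := by
    clear hy h
    induction y using TensorProduct.induction_on with
    | zero => simp
    | tmul r m => simp [sub_smul, Finset.sum_smul, smul_smul]
    | add a b ha hb =>
      simp only [map_add, ha, hb, smul_add, Finset.sum_add_distrib]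
      abel
  rw [hlin, sub_eq_zero] at h
  rw [h]
  refine Finset.sum_congr rfl fun i _ => ?_
  simp [mul_comm, Algebra.smul_def]

theorem inSub_iff_sum {ι : Type*} [Fintype ι] {N : Submodule k M} (e : ι → M) (he : ∀ i, e i ∈ N)
    (c : ι → R) : InSub N (∑ i, c i • ((1 : R) ⊗ₜ[k] e i)) := fun φ hφ => by
  simp [map_sum, show ∀ i, φ (e i) = 0 from fun i => hφ (he i)]

/-- Dual forms of a finite subspace. -/
theorem exists_dual_family (N : Submodule k M) [Module.Finite k N] :
    ∃ (n : ℕ) (e : Fin n → M) (φ : Fin n → Module.Dual k M), (∀ i, e i ∈ N) ∧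
      (∀ i j, φ i (e j) = if i = j then 1 else 0) ∧ ∀ x ∈ N, ∑ i, φ i x • e i = x := by
  let b := Module.finBasis k N
  choose φ hφ using fun i => LinearMap.exists_extend (p := N) (b.coord i)
  have hv : ∀ i (x : N), φ i (x : M) = b.repr x i := fun i x => LinearMap.congr_fun (hφ i) x
  refine ⟨_, fun i => (b i : M), φ, fun i => (b i).2, fun i j => ?_, fun x hx => ?_⟩
  · rw [hv]
    simp [Finsupp.single_apply, eq_comm]
  · have h := congrArg N.subtype (b.sum_repr ⟨x, hx⟩)
    rw [map_sum] at h
    refine Eq.trans (Finset.sum_congr rfl fun i _ => ?_) h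
    rw [show φ i x = b.repr ⟨x, hx⟩ i from hv i ⟨x, hx⟩, map_smul]
    rfl

end GrothLib.Repr
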