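import Groth.Agent.Lib.Repr.GLHom
import Groth.Agent.Lib.Repr.Functions
import Groth.Agent.Lib.GrpSchField.Shear

/-!
An affine group of finite type over a field has a faithful matrix representation.
-/

universe u

open CategoryTheory CategoryTheory.Limits MonoidalCategory CartesianMonoidalCategory MonObj GrpObj
open AlgebraicGeometry VecGrp

namespace GrothLib.Repr

theorem exists_faithful_GL {k : Type u} [Field k] (G : Over (Spec (CommRingCat.of k))) [GrpObj G]
    [LocallyOfFiniteType G.hom] [IsAffine G.left] :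
    ∃ (N : ℕ) (ρ : G ⟶ GLsch k N), IsMonHom ρ ∧
      ∀ (R : Type u) [CommRing R] [Algebra k R] (u : pt k R ⟶ G), u ≫ ρ = 1 → u = 1 := by
  haveI : QuasiCompact G.hom := inferInstance
  obtain ⟨N, ρ, hρm, hρ⟩ := exists_hom_detect
    (fun _ : PUnit.{u+1} => fnGMod (GrothLib.GrpSchField.mulAction G))
  refine ⟨N, ρ, hρm, fun R _ _ u hu => ?_⟩
  have h1 := act_trivial_of_affine (GrothLib.GrpSchField.mulAction G) u
    (fun x => (hρ R u).1 hu PUnit.unit x) (𝟙 _) (1 : pt k R ⟶ G)
  rw [Category.id_comp] at h1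
  change lift u 1 ≫ μ[G] = 1 at h1
  rwa [← Hom.mul_def, _root_.mul_one] at h1

end GrothLib.Repr
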