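import Groth.Agent.Lib.Repr.GLHom
import Groth.Prelude.Def_AlgGrp
import Mathlib.AlgebraicGeometry.AffineSpace
import Mathlib.LinearAlgebra.TensorProduct.Pi
import Mathlib.AlgebraicGeometry.Geometrically.Integral

/-!
The module and the action on affine space of a homomorphism to `GL_N`.
-/

universe u

open CategoryTheory CategoryTheory.Limits MonoidalCategory CartesianMonoidalCategory MonObj GrpObj
open AlgebraicGeometry VecGrp WithConv
open scoped TensorProduct

noncomputable section

namespace GrothLib.Repr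

variable {k : Type u} [Field k]

/-- The affine space over the field. -/
abbrev affSp (k : Type u) [Field k] (N : ℕ) : Over (Spec (CommRingCat.of k)) :=
  pt k (MvPolynomial (ULift.{u} (Fin N)) k)

theorem affSp_props (N : ℕ) : LocallyOfFiniteType (affSp k N).hom ∧ QuasiCompact (affSp k N).hom ∧
    IsSeparated (affSp k N).hom ∧ IsIntegral (affSp k N).left ∧ GeometricallyIntegral (affSp k N).hom := by
  refine ⟨?_, inferInstanceAs (QuasiCompact (Spec.map _)), inferInstanceAs (IsSeparated (Spec.map _)),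
    inferInstanceAs (IsIntegral (Spec (CommRingCat.of (MvPolynomial (ULift.{u} (Fin N)) k)))), ?_⟩
  · exact (HasRingHomProperty.Spec_iff (P := @LocallyOfFiniteType)
      (φ := CommRingCat.ofHom (algebraMap k (MvPolynomial (ULift.{u} (Fin N)) k)))).2
      (RingHom.finiteType_algebraMap.2 inferInstance)
  · have h := AffineSpace.SpecIso_inv_over (n := ULift.{u} (Fin N)) (CommRingCat.of k)
    show GeometricallyIntegral (Spec.map (CommRingCat.ofHom MvPolynomial.C))
    rw [← h]
    exact (MorphismProperty.cancel_left_of_respectsIso @GeometricallyIntegral _ _).2 inferInstance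

variable {G : Over (Spec (CommRingCat.of k))}

/-- The matrix of a point of `GL_N`. -/
def pMat {N : ℕ} {R : Type u} [CommRing R] [Algebra k R] (p : pt k R ⟶ GLsch k N) :
    Matrix (Fin N) (Fin N) R :=
  GrothLib.HMG.mat ((Spec.mapMulEquiv (R := k)).symm p).ofConv

theorem pMat_mapMulEquiv {N : ℕ} {R : Type u} [CommRing R] [Algebra k R]
    (w : WithConv (CoordGrp.GLn N k →ₐ[k] R)) :
    pMat (k := k) (Spec.mapMulEquiv w) = GrothLib.HMG.mat w.ofConv :=
  congrArg (fun z => GrothLib.HMG.mat (ofConv z)) ((Spec.mapMulEquiv (R := k)).symm_apply_apply w)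

theorem map_pMat {N : ℕ} {R R' : Type u} [CommRing R] [Algebra k R] [CommRing R'] [Algebra k R']
    (f : R →ₐ[k] R') (p : pt k R ⟶ GLsch k N) : (pMat p).map f = pMat (ptMap f ≫ p) := by
  obtain ⟨w, rfl⟩ := (Spec.mapMulEquiv (R := k)).surjective p
  refine (congrArg (fun M : Matrix (Fin N) (Fin N) R => M.map f) (pMat_mapMulEquiv w)).trans ?_
  refine Eq.trans ?_ (congrArg pMat (mapMulEquiv_comp f w)).symm
  exact (pMat_mapMulEquiv (toConv (f.comp w.ofConv))).symm

theorem pMat_mul {N : ℕ} {R : Type u} [CommRing R] [Algebra k R] (p q : pt k R ⟶ GLsch k N) :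
    pMat (p * q) = pMat p * pMat q :=
  ((congrArg (fun z => GrothLib.HMG.mat (ofConv z))
    (map_mul (Spec.mapMulEquiv (R := k)).symm p q)).trans
    (congrArg GrothLib.HMG.mat (AlgHom.ext fun x => AlgHom.convMul_apply _ _ x))).trans
    (GrothLib.HMG.mat_pmul _ _)

theorem pMat_one {N : ℕ} {R : Type u} [CommRing R] [Algebra k R] :
    pMat (1 : pt k R ⟶ GLsch k N) = 1 :=
  (congrArg (fun z => GrothLib.HMG.mat (ofConv z)) (map_one (Spec.mapMulEquiv (R := k)).symm)).trans
    GrothLib.HMG.mat_pone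

theorem pMat_injective {N : ℕ} {R : Type u} [CommRing R] [Algebra k R] :
    Function.Injective (pMat : (pt k R ⟶ GLsch k N) → _) := fun _ _ h =>
  (Spec.mapMulEquiv (R := k)).symm.injective (WithConv.ofConv_injective (GrothLib.HMG.ext_mat h))

/-- The matrix of a point under a map to `GL_N`. -/
def matOf {N : ℕ} (ρ : G ⟶ GLsch k N) {R : Type u} [CommRing R] [Algebra k R] (u : pt k R ⟶ G) :
    Matrix (Fin N) (Fin N) R :=
  pMat (u ≫ ρ)

theorem map_matOf {N : ℕ} (ρ : G ⟶ GLsch k N) {R R' : Type u} [CommRing R] [Algebra k R] [CommRing R']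
    [Algebra k R'] (f : R →ₐ[k] R') (u : pt k R ⟶ G) : (matOf ρ u).map f = matOf ρ (ptMap f ≫ u) := by
  rw [matOf, matOf, map_pMat, Category.assoc]

variable [GrpObj G] {N : ℕ} (ρ : G ⟶ GLsch k N) [IsMonHom ρ] {R : Type u} [CommRing R] [Algebra k R]

theorem matOf_mul (u v : pt k R ⟶ G) : matOf ρ (u * v) = matOf ρ u * matOf ρ v := by
  rw [matOf, matOf, matOf, MonObj.mul_comp, pMat_mul]

theorem matOf_one : matOf ρ (1 : pt k R ⟶ G) = 1 := by
  rw [matOf, MonObj.one_comp, pMat_one]

omit [IsMonHom ρ] in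
theorem comp_eq_one_of_matOf {u : pt k R ⟶ G} (h : matOf ρ u = 1) : u ≫ ρ = 1 :=
  pMat_injective (h.trans pMat_one.symm)

variable (k R) in
/-- The coordinates of an element of `R ⊗ k^N`. -/
def coordEquiv (N : ℕ) : W k (Fin N → k) R ≃ₗ[R] (Fin N → R) :=
  LinearEquiv.ofLinear
    (LinearMap.pi fun i => cf (M := Fin N → k) (LinearMap.proj i))
    (∑ i : Fin N, (LinearMap.proj i : (Fin N → R) →ₗ[R] R).smulRight ((1 : R) ⊗ₜ[k] (Pi.single i (1 : k) : Fin N → k)))
    (LinearMap.ext fun v => funext fun i => by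
      simp only [LinearMap.coe_comp, Function.comp_apply, LinearMap.pi_apply, LinearMap.sum_apply,
        LinearMap.smulRight_apply, LinearMap.proj_apply, LinearMap.id_apply, map_sum, LinearMap.map_smul,
        cf_tmul]
      rw [Finset.sum_eq_single i (fun j _ hj => by simp [Ne.symm hj]) (fun h => absurd (Finset.mem_univ _) h)]
      simp)
    (LinearMap.ext fun y => by
      simp only [LinearMap.coe_comp, Function.comp_apply, LinearMap.sum_apply, LinearMap.smulRight_apply,
        LinearMap.proj_apply, LinearMap.pi_apply, LinearMap.id_apply]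
      exact sum_cf_tmul (N := ⊤) (fun i : Fin N => (Pi.single i (1 : k) : Fin N → k)) (fun _ => trivial)
        (fun i => LinearMap.proj i) (fun x _ => by ext j; simp [Pi.single_apply])
        (fun φ hφ => by rw [show φ = 0 from LinearMap.ker_eq_top.1 (top_unique hφ)]; simp [cf]))

theorem coordEquiv_apply (y : W k (Fin N → k) R) (i : Fin N) :
    coordEquiv k R N y i = cf (LinearMap.proj i) y := rfl

/-- The linear automorphism of a point. -/
def linOf (u : pt k R ⟶ G) : W k (Fin N → k) R →ₗ[R] W k (Fin N → k) R :=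
  (coordEquiv k R N).symm.toLinearMap ∘ₗ Matrix.toLin' (matOf ρ u) ∘ₗ (coordEquiv k R N).toLinearMap

omit [GrpObj G] [IsMonHom ρ] in
theorem coordEquiv_linOf (u : pt k R ⟶ G) (y : W k (Fin N → k) R) :
    coordEquiv k R N (linOf ρ u y) = (matOf ρ u).mulVec (coordEquiv k R N y) :=
  ((coordEquiv k R N).apply_symm_apply _).trans
    (Matrix.toLin'_apply (matOf ρ u) (coordEquiv k R N y))

omit [GrpObj G] [IsMonHom ρ] in
theorem coordEquiv_Wmap {R' : Type u} [CommRing R'] [Algebra k R'] (f : R →ₐ[k] R') (y : W k (Fin N → k) R) :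
    coordEquiv k R' N (Wmap f y) = f ∘ coordEquiv k R N y := funext fun _ => (map_cf f _ y).symm

omit [GrpObj G] [IsMonHom ρ] in
theorem Wmap_linOf {R' : Type u} [CommRing R'] [Algebra k R'] (f : R →ₐ[k] R') (u : pt k R ⟶ G)
    (y : W k (Fin N → k) R) : Wmap f (linOf ρ u y) = linOf ρ (ptMap f ≫ u) (Wmap f y) := by
  apply (coordEquiv k R' N).injective
  rw [coordEquiv_Wmap, coordEquiv_linOf, coordEquiv_linOf, coordEquiv_Wmap, ← map_matOf]
  exact funext fun i => RingHom.map_mulVec f.toRingHom _ _ i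

theorem linOf_mul (u v : pt k R ⟶ G) (y : W k (Fin N → k) R) :
    linOf ρ (u * v) y = linOf ρ u (linOf ρ v y) := by
  apply (coordEquiv k R N).injective
  rw [coordEquiv_linOf, coordEquiv_linOf, coordEquiv_linOf, matOf_mul, Matrix.mulVec_mulVec]

theorem linOf_one (y : W k (Fin N → k) R) : linOf ρ (1 : pt k R ⟶ G) y = y := by
  apply (coordEquiv k R N).injective
  rw [coordEquiv_linOf, matOf_one, Matrix.one_mulVec]

/-- The linear automorphism of a point, as an equivalence. -/
def linEquivOf (u : pt k R ⟶ G) : W k (Fin N → k) R ≃ₗ[R] W k (Fin N → k) R :=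
  LinearEquiv.ofLinear (linOf ρ u) (linOf ρ u⁻¹)
    (LinearMap.ext fun y => by rw [LinearMap.comp_apply, LinearMap.id_apply, ← linOf_mul, mul_inv_cancel, linOf_one])
    (LinearMap.ext fun y => by rw [LinearMap.comp_apply, LinearMap.id_apply, ← linOf_mul, inv_mul_cancel, linOf_one])

theorem linEquivOf_apply (u : pt k R ⟶ G) (y : W k (Fin N → k) R) : linEquivOf ρ u y = linOf ρ u y := rfl

theorem linEquivOf_mul (u v : pt k R ⟶ G) : linEquivOf ρ (u * v) = linEquivOf ρ u * linEquivOf ρ v := by
  refine LinearEquiv.ext fun y => ?_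
  rw [LinearEquiv.mul_apply, linEquivOf_apply, linEquivOf_apply, linEquivOf_apply, linOf_mul]

/-- The module of a homomorphism to `GL_N`. -/
def glModule : GMod G (Fin N → k) where
  ρ R _ _ := MonoidHom.mk' (fun u => linEquivOf ρ u) (linEquivOf_mul ρ)
  naturality {R R'} _ _ _ _ f u y := Wmap_linOf ρ f u y

theorem matOf_eq_one_of_glModule (u : pt k R ⟶ G)
    (h : ∀ x : Fin N → k, (glModule ρ).ρ R u ((1 : R) ⊗ₜ[k] x) = (1 : R) ⊗ₜ[k] x) : matOf ρ u = 1 := by
  refine Matrix.toLin'.injective (LinearMap.pi_ext' fun j => LinearMap.ext_ring ?_)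
  have h1 := congrArg (coordEquiv k R N) (h (Pi.single j 1))
  rw [show (glModule ρ).ρ R u ((1 : R) ⊗ₜ[k] Pi.single j 1) = linOf ρ u ((1 : R) ⊗ₜ[k] Pi.single j 1) from rfl,
    coordEquiv_linOf] at h1
  have e : coordEquiv k R N ((1 : R) ⊗ₜ[k] Pi.single j 1) = Pi.single j 1 := by
    ext i
    simp [coordEquiv_apply, Pi.single_apply]
  rw [e] at h1
  simpa using h1

/-- The linear action on affine space. -/
theorem exists_linAction :
    ∃ (a : AlgGrp.Action G (affSp k N)) (x : 𝟙_ (Over (Spec (CommRingCat.of k))) ⟶ affSp k N),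
      a.IsFixedPt x ∧ (a.act = snd G (affSp k N) → ρ = 1) := by
  let vec := fun (R : Type u) [CommRing R] [Algebra k R] (y : pt k R ⟶ affSp k N) =>
    fun i : Fin N => (exists_ptMap y).choose (MvPolynomial.X ⟨i⟩)
  let mk := fun (R : Type u) [CommRing R] [Algebra k R] (v : Fin N → R) =>
    (ptMap (MvPolynomial.aeval fun i => v i.down) : pt k R ⟶ affSp k N)
  have hmk : ∀ (R : Type u) [CommRing R] [Algebra k R] (y : pt k R ⟶ affSp k N), mk R (vec R y) = y := by
    intro R _ _ y
    refine (congrArg ptMap ?_).trans (exists_ptMap y).choose_spec.symm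
    exact MvPolynomial.algHom_ext fun i => MvPolynomial.aeval_X _ _
  have hvec : ∀ (R : Type u) [CommRing R] [Algebra k R] (v : Fin N → R), vec R (mk R v) = v := by
    intro R _ _ v
    funext i
    have h := congrArg (·.left) (exists_ptMap (mk R v)).choose_spec
    simp only [mk, ptMap_left] at h
    exact (congr($(Spec.map_injective h).hom (MvPolynomial.X ⟨i⟩))).symm.trans (MvPolynomial.aeval_X _ _)
  have hmkn : ∀ (R R' : Type u) [CommRing R] [Algebra k R] [CommRing R'] [Algebra k R'] (f : R →ₐ[k] R')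
      (v : Fin N → R), ptMap f ≫ mk R v = mk R' (f ∘ v) := fun R R' _ _ _ _ f v => by
    simp only [mk, ← ptMap_comp]
    congr 1
    exact MvPolynomial.algHom_ext fun i => by simp
  have hvecn : ∀ (R R' : Type u) [CommRing R] [Algebra k R] [CommRing R'] [Algebra k R'] (f : R →ₐ[k] R')
      (y : pt k R ⟶ affSp k N), vec R' (ptMap f ≫ y) = f ∘ vec R y := fun R R' _ _ _ _ f y => by
    conv_lhs => rw [← hmk R y, hmkn, hvec]
  obtain ⟨act, hact⟩ := exists_hom_of_natural
    (fun R _ _ (p : pt k R ⟶ G ⊗ affSp k N) =>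
      mk R ((matOf ρ (p ≫ fst _ _)).mulVec (vec R (p ≫ snd _ _))))
    (fun R R' _ _ _ _ f p => by
      rw [hmkn]
      congr 1
      rw [Category.assoc, Category.assoc, ← map_matOf, hvecn]
      ext i
      exact RingHom.map_mulVec f.toRingHom _ _ i)
  have hpt : ∀ (R : Type u) [CommRing R] [Algebra k R] (g : pt k R ⟶ G) (y : pt k R ⟶ affSp k N),
      lift g y ≫ act = mk R ((matOf ρ g).mulVec (vec R y)) := fun R _ _ g y => by
    rw [hact, lift_fst, lift_snd]
  let a : AlgGrp.Action G (affSp k N) :=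
    { act := act
      one_act := hom_ext_pts fun R _ _ p => by
        rw [← GrothLib.GrpSchField.lift_fst_snd_comp p]
        rw [lift_whiskerRight_assoc, lift_leftUnitor_hom,
          show (p ≫ fst (𝟙_ _) (affSp k N)) ≫ η[G] = (1 : pt k R ⟶ G) by
            rw [Hom.one_def]; congr 1; exact Subsingleton.elim _ _,
          hpt, matOf_one, Matrix.one_mulVec, hmk]
      mul_act := hom_ext_pts fun R _ _ p => by
        rw [← GrothLib.GrpSchField.lift_fst_snd_comp p, ← GrothLib.GrpSchField.lift_fst_snd_comp (p ≫ fst _ _)]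
        generalize (p ≫ fst (G ⊗ G) (affSp k N)) ≫ fst G G = g
        generalize (p ≫ fst (G ⊗ G) (affSp k N)) ≫ snd G G = g'
        rw [lift_lift_associator_hom_assoc, lift_whiskerRight_assoc, lift_whiskerLeft_assoc,
          ← Hom.mul_def, hpt, hpt, hpt, hvec, Matrix.mulVec_mulVec, matOf_mul] }
  let z : pt k k ⟶ affSp k N := mk k 0
  let j : 𝟙_ (Over (Spec (CommRingCat.of k))) ⟶ pt k k := Over.homMk (𝟙 _) (by
    show 𝟙 _ ≫ Spec.map (CommRingCat.ofHom (algebraMap k k)) = 𝟙 _
    rw [Category.id_comp]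
    exact Spec.map_id _)
  have hz : ∀ (R : Type u) [CommRing R] [Algebra k R] (s : pt k R ⟶ pt k k), s ≫ z = mk R 0 := by
    intro R _ _ s
    obtain ⟨f, rfl⟩ := exists_ptMap s
    rw [hmkn]
    congr 1
    ext i
    simp
  refine ⟨a, j ≫ z, fun T g => hom_ext_pts fun R _ _ s => ?_, fun h => hom_ext_pts fun R _ _ u => ?_⟩
  · rw [← Category.assoc, comp_lift, ← Category.assoc s (toUnit T), ← Category.assoc (s ≫ toUnit T),
      hz R _, hpt, hvec, Matrix.mulVec_zero]
  · rw [MonObj.comp_one]
    refine comp_eq_one_of_matOf ρ (Matrix.toLin'.injective (LinearMap.pi_ext' fun i => LinearMap.ext_ring ?_))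
    have h1 := hpt R u (mk R (Pi.single i 1))
    rw [show lift u (mk R (Pi.single i 1)) ≫ act = mk R (Pi.single i 1) by
      rw [show act = snd G (affSp k N) from h, lift_snd], hvec] at h1
    have h2 := congrArg (vec R) h1
    rw [hvec, hvec] at h2
    simpa using h2.symm

end GrothLib.Repr
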