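import Groth.Agent.Lib.Repr.Quotient
import Groth.Agent.Lib.Repr.Functions
import Groth.Agent.Lib.AntiAffine.Hom
import Groth.Agent.Lib.GrpSchField.Shear

/-!
A group of finite type over a field is anti-affine iff its representations are trivial.
-/

universe u

open CategoryTheory CategoryTheory.Limits MonoidalCategory CartesianMonoidalCategory MonObj GrpObj
open AlgebraicGeometry VecGrp
open scoped TensorProduct

noncomputable section

namespace GrothLib.Repr

variable {k : Type u} [Field k] {G : Over (Spec (CommRingCat.of k))} [GrpObj G]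
  [LocallyOfFiniteType G.hom] [QuasiCompact G.hom]

theorem hom_eq_one_of_antiAffine (hG : GrothLib.AntiAffine.IsAntiAffine G) {L : Over (Spec (CommRingCat.of k))}
    [GrpObj L] [IsAffine L.left] (ρ : G ⟶ L) [IsMonHom ρ] : ρ = 1 := by
  haveI := GrothLib.GrpSchField.isSeparated G
  rw [hG.eq_const η[G] ρ, IsMonHom.one_hom, ← Hom.one_def]

theorem antiAffine_of_trivial
    (h : ∀ (N : ℕ) (ρ : G ⟶ GLsch k N), IsMonHom ρ → ρ = 1) : GrothLib.AntiAffine.IsAntiAffine G := by
  haveI := GrothLib.GrpSchField.isSeparated G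
  obtain ⟨N, ρ, hρm, hρ⟩ := exists_hom_detect (fun _ : PUnit.{u+1} => fnGMod (GrothLib.GrpSchField.mulAction G))
  have hρ1 : ρ = 1 := h N ρ hρm
  let c : G ⟶ G := toUnit G ≫ η[G]
  have hall : ∀ (R : Type u) [CommRing R] [Algebra k R] (v : pt k R ⟶ G) (f : Fn G),
      fnMap v f = fnMap (v ≫ c) f := by
    intro R _ _ v f
    have h1 := (act_fnGMod_eq_iff (GrothLib.GrpSchField.mulAction G) v⁻¹ f).1
      ((hρ R v⁻¹).1 (by rw [hρ1, MonObj.comp_one]) PUnit.unit f)
    have h2 := congrArg (fnMap (lift (toUnit _ ≫ η[G]) (𝟙 (pt k R)))) h1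
    rw [← AlgHom.comp_apply, ← fnMap_comp, ← AlgHom.comp_apply, ← fnMap_comp, lift_fst] at h2
    have e1 : lift (toUnit _ ≫ η[G]) (𝟙 (pt k R)) ≫ lift (snd G (pt k R) ≫ (v⁻¹)⁻¹) (fst G (pt k R)) ≫
        (GrothLib.GrpSchField.mulAction G).act = v := by
      rw [_root_.inv_inv, comp_lift_assoc, lift_snd_assoc, lift_fst, ← Hom.one_def, Category.id_comp]
      show lift v 1 ≫ μ[G] = v
      rw [← Hom.mul_def, _root_.mul_one]
    rw [e1] at h2
    rw [h2, show v ≫ c = toUnit _ ≫ η[G] by simp [c]]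
  have hconst : (Over.Hom.left (𝟙 G)) ≫ G.left.toSpecΓ = c.left ≫ G.left.toSpecΓ := by
    refine Scheme.Cover.hom_ext G.left.affineCover _ _ fun a => ?_
    obtain ⟨R, _, _, u, e, hu⟩ := GrothLib.Chevalley.exists_affine_pts (k := k) (T := G) a
    have h3 : u.left ≫ G.left.toSpecΓ = (u ≫ c).left ≫ G.left.toSpecΓ := by
      refine ext_of_isAffine ?_
      rw [Scheme.Hom.comp_appTop, Scheme.Hom.comp_appTop]
      congr 1
      ext f
      exact hall R u f
    rw [hu, Over.comp_left, hu] at h3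
    simp only [Category.assoc] at h3
    simpa using (cancel_epi (eqToHom e)).1 h3
  have hfix : ∀ f : Fn G, f = fnMap c f := fun f => by
    have h4 := congrArg Scheme.Hom.appTop hconst
    rw [Scheme.Hom.comp_appTop, Scheme.Hom.comp_appTop] at h4
    have h5 : (Over.Hom.left (𝟙 G)).appTop = c.left.appTop := by
      rw [Scheme.toSpecΓ_appTop] at h4
      exact (cancel_epi _).1 h4
    have h6 := congr($(h5).hom f)
    rw [Over.id_left, Scheme.Hom.id_appTop] at h6
    exact h6
  refine ⟨?_, fun f => ?_⟩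
  · have hleft : Function.LeftInverse (fun f : Fn G => (Scheme.ΓSpecIso (CommRingCat.of k)).hom.hom (η[G].left.appTop.hom f))
        ((Scheme.ΓSpecIso (CommRingCat.of k)).inv ≫ G.hom.appTop).hom := fun r => by
      change ((Scheme.ΓSpecIso (CommRingCat.of k)).inv ≫ G.hom.appTop ≫ η[G].left.appTop ≫
        (Scheme.ΓSpecIso (CommRingCat.of k)).hom).hom r = r
      rw [← Category.assoc G.hom.appTop, ← Scheme.Hom.comp_appTop, show η[G].left ≫ G.hom = 𝟙 _ from Over.w η[G]]
      simp
    exact hleft.injective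
  · refine ⟨(Scheme.ΓSpecIso (CommRingCat.of k)).hom.hom (η[G].left.appTop.hom f), ?_⟩
    conv_rhs => rw [hfix f]
    change ((η[G].left.appTop ≫ (Scheme.ΓSpecIso (CommRingCat.of k)).hom ≫
      (Scheme.ΓSpecIso (CommRingCat.of k)).inv ≫ G.hom.appTop)).hom f = (G.hom ≫ η[G].left).appTop.hom f
    rw [Iso.hom_inv_id_assoc, Scheme.Hom.comp_appTop]

end GrothLib.Repr
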