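import Groth.Prelude.Def_CGrpSh2
import Groth.Agent.Lib.GrpSchField.Points

/-!
# Characters of a commutative group scheme as morphisms of sheaves
-/

universe u

open CategoryTheory MonoidalCategory CartesianMonoidalCategory MonObj GrpObj AlgebraicGeometry

noncomputable section

namespace GrothLib.Repr.CharSheaf

variable {S : Scheme.{u}} {G H : Over S} [GrpObj G] [IsCommMonObj G] [GrpObj H] [IsCommMonObj H]

local notation "K" => Scheme.fppfPrecoverage

/-- The character underlying a morphism of sheaves of points into `𝔾ₘ`: the image of the universal point. -/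
def univ (φ : CGrpSh.pts K G ⟶ CGrpSh2.Gm K S) : G ⟶ Red.Gm S :=
  (φ.hom.app (Opposite.op G) (ULift.up (Additive.ofMul (𝟙 G)))).down.toMul

theorem app_eq (φ : CGrpSh.pts K G ⟶ CGrpSh2.Gm K S) (T : Over S) (a : T ⟶ G) :
    (φ.hom.app (Opposite.op T) (ULift.up (Additive.ofMul a))).down.toMul = a ≫ univ φ := by
  have h := ConcreteCategory.congr_hom (φ.hom.naturality a.op) (ULift.up (Additive.ofMul (𝟙 G)))
  refine Eq.trans ?_ (congrArg (fun t => t.down.toMul) h)
  exact congrArg (fun b => (φ.hom.app (Opposite.op T) (ULift.up (Additive.ofMul b))).down.toMul) (Category.comp_id a).symm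

theorem isMonHom_univ (φ : CGrpSh.pts K G ⟶ CGrpSh2.Gm K S) : IsMonHom (univ φ) := by
  refine GrothLib.GrpSchField.isMonHom_of_mul _ ?_
  have e : μ[G] = fst G G * snd G G := by rw [Hom.mul_def, lift_fst_snd, Category.id_comp]
  have h := congrArg (fun t => t.down.toMul) (map_add (φ.hom.app (Opposite.op (G ⊗ G))).hom
    (ULift.up (Additive.ofMul (fst G G))) (ULift.up (Additive.ofMul (snd G G))))
  rw [e]
  refine ((app_eq φ _ _).symm.trans h).trans ?_
  refine Eq.trans (congrArg₂ (fun a b : G ⊗ G ⟶ Red.Gm S => a * b) (app_eq φ _ _) (app_eq φ _ _)) ?_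
  rw [Hom.mul_def]
  rfl

theorem hom_ext {φ ψ : CGrpSh.pts K G ⟶ CGrpSh2.Gm K S} (h : univ φ = univ ψ) : φ = ψ := by
  refine Sheaf.hom_ext (NatTrans.ext (funext fun T => AddCommGrpCat.ext fun a => ?_))
  refine ULift.ext _ _ (Additive.toMul.injective ?_)
  exact (app_eq φ T.unop a.down.toMul).trans (((congrArg (a.down.toMul ≫ ·) h)).trans (app_eq ψ T.unop a.down.toMul).symm)

theorem univ_add (φ ψ : CGrpSh.pts K G ⟶ CGrpSh2.Gm K S) : univ (φ + ψ) = univ φ * univ ψ := rfl

theorem univ_ptsMap (χ : G ⟶ Red.Gm S) [IsMonHom χ] : univ (CGrpSh.ptsMap K χ) = χ := Category.id_comp χ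

theorem univ_comp (i : G ⟶ H) [IsMonHom i] (φ : CGrpSh.pts K H ⟶ CGrpSh2.Gm K S) :
    univ (CGrpSh.ptsMap K i ≫ φ) = i ≫ univ φ := by
  refine Eq.trans ?_ (app_eq φ G i)
  exact congrArg (fun b => (φ.hom.app (Opposite.op G) (ULift.up (Additive.ofMul b))).down.toMul) (Category.id_comp i)

end GrothLib.Repr.CharSheaf
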