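import Groth.Agent.Lib.Repr.AffinePts

/-!
Finitely many affine charts of a group of finite type, seen on affine points.
-/

universe u

open CategoryTheory CategoryTheory.Limits MonoidalCategory CartesianMonoidalCategory MonObj GrpObj
open AlgebraicGeometry VecGrp

namespace GrothLib.Repr

variable {k : Type u} [Field k]

local notation "S" => Spec (CommRingCat.of k)

/-- The localisation map of an algebra over the field. -/
noncomputable def awayHom {R : Type u} [CommRing R] [Algebra k R] (g : R) : R →ₐ[k] Localization.Away g :=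
  IsScalarTower.toAlgHom k R (Localization.Away g)

theorem awayHom_apply {R : Type u} [CommRing R] [Algebra k R] (g x : R) :
    awayHom (k := k) g x = algebraMap R (Localization.Away g) x := rfl

/-- An element vanishing in localisations around every prime vanishes. -/
theorem eq_zero_of_local {R : Type u} [CommRing R] [Algebra k R] {a : R}
    (h : ∀ p : Ideal R, p.IsPrime → ∃ g, g ∉ p ∧ awayHom (k := k) g a = 0) : a = 0 := by
  by_contra ha
  have hne : (Submodule.span R {a}).annihilator ≠ ⊤ := by
    intro e
    refine ha ?_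
    have := (Submodule.mem_annihilator_span_singleton a (1 : R)).1 (e ▸ Submodule.mem_top)
    simpa using this
  obtain ⟨p, hp, hle⟩ := Ideal.exists_le_maximal _ hne
  obtain ⟨g, hg, h0⟩ := h p hp.isPrime
  rw [awayHom_apply] at h0
  obtain ⟨⟨_, n, rfl⟩, hn⟩ := (IsLocalization.map_eq_zero_iff (Submonoid.powers g) _ a).1 h0
  exact hg (hp.isPrime.mem_of_pow_mem n (hle ((Submodule.mem_annihilator_span_singleton a (g ^ n)).2 hn)))

/-- Finitely many affine charts through which every affine point factors locally. -/
theorem exists_charts (G : Over S) [LocallyOfFiniteType G.hom] [QuasiCompact G.hom] :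
    ∃ (n : ℕ) (A : Fin n → Type u) (_ : ∀ j, CommRing (A j)) (_ : ∀ j, Algebra k (A j))
      (_ : ∀ j, IsNoetherianRing (A j)) (w : ∀ j, pt k (A j) ⟶ G),
      ∀ (R : Type u) [CommRing R] [Algebra k R] (u : pt k R ⟶ G) (p : Ideal R), p.IsPrime →
        ∃ g, g ∉ p ∧ ∃ (j : Fin n) (σ : A j →ₐ[k] Localization.Away g),
          ptMap (awayHom g) ≫ u = ptMap σ ≫ w j := by
  have : CompactSpace G.left := QuasiCompact.compactSpace_of_compactSpace G.hom
  choose R hR₁ hR₂ u₀ e hu₀ using fun a => GrothLib.Chevalley.exists_affine_pts (k := k) (T := G) a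
  let u : ∀ a, pt k (R a) ⟶ G := u₀
  let U := G.left.affineCover
  have hu : ∀ a, (u a).left = eqToHom (e a) ≫ U.f a := hu₀
  obtain ⟨t, ht⟩ := isCompact_univ.elim_finite_subcover (fun a => Set.range (U.f a))
    (fun a => (IsOpenImmersion.isOpen_range (U.f a))) (fun x _ => Set.mem_iUnion.2 ⟨U.idx x, U.covers x⟩)
  let eI := t.equivFin.symm
  have hfac : ∀ a, eqToHom (e a).symm ≫ (u a).left = U.f a := fun a => by
    rw [hu a]; simp
  have hopen : ∀ a, IsOpenImmersion (u a).left := fun a => by
    rw [hu a]
    exact (inferInstance : IsOpenImmersion (eqToHom (e a) ≫ U.f a))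
  have hrange : ∀ x : G.left, ∃ i : t, x ∈ Set.range (u i.1).left := by
    intro x
    obtain ⟨a, ha, z, hz⟩ := Set.mem_iUnion₂.1 (ht (Set.mem_univ x))
    refine ⟨⟨a, ha⟩, (eqToHom (e a).symm) z, ?_⟩
    rw [← hz, ← hfac a]
    rfl
  refine ⟨t.card, fun j => R (eI j).1, fun j => hR₁ _, fun j => hR₂ _, fun j => ?_,
    fun j => u _, ?_⟩
  · let _ := hR₁ ((eI j).1)
    let _ := hR₂ ((eI j).1)
    have hl : LocallyOfFiniteType (pt k (R (eI j).1)).hom := by
      have h := hopen ((eI j).1)
      rw [← show (u ((eI j).1)).left ≫ G.hom = (pt k (R ((eI j).1))).hom from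
        Over.w (u ((eI j).1))]
      infer_instance
    have : Algebra.FiniteType k (R ((eI j).1)) :=
      RingHom.finiteType_algebraMap.1 ((HasRingHomProperty.Spec_iff (P := @LocallyOfFiniteType)).1 hl)
    exact Algebra.FiniteType.isNoetherianRing k _
  · intro R' _ _ v p hp
    obtain ⟨i, hi⟩ := hrange (v.left (⟨p, hp⟩ : PrimeSpectrum R'))
    obtain ⟨j, rfl⟩ := eI.surjective i
    let a := (eI j).1
    have := hopen a
    have hO : IsOpen (v.left ⁻¹' Set.range (u a).left) :=
      (u a).left.isOpenEmbedding.isOpen_range.preimage v.left.continuous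
    obtain ⟨_, ⟨g, rfl⟩, hpg, hsub⟩ :=
      (PrimeSpectrum.isTopologicalBasis_basic_opens (R := R')).exists_subset_of_mem_open
        (a := (⟨p, hp⟩ : PrimeSpectrum R')) hi hO
    refine ⟨g, hpg, j, ?_⟩
    let m := ptMap (awayHom (k := k) g) ≫ v
    have hm : Set.range m.left ⊆ Set.range (u a).left := by
      rintro _ ⟨z, rfl⟩
      have hz : PrimeSpectrum.comap (algebraMap R' (Localization.Away g)) z ∈
          (PrimeSpectrum.basicOpen g : Set (PrimeSpectrum R')) := by
        rw [← PrimeSpectrum.localization_away_comap_range (Localization.Away g) g]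
        exact ⟨z, rfl⟩
      exact hsub hz
    let l : pt k (Localization.Away g) ⟶ pt k (R a) :=
      Over.homMk (IsOpenImmersion.lift (u a).left m.left hm) (by
        refine Eq.trans ?_ (Over.w m)
        rw [← Over.w (u a), IsOpenImmersion.lift_fac_assoc])
    obtain ⟨σ, hσ⟩ := exists_ptMap l
    refine ⟨σ, ?_⟩
    rw [← hσ]
    exact Over.OverMorphism.ext (IsOpenImmersion.lift_fac (u a).left m.left hm).symm

end GrothLib.Repr
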