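import Groth.Agent.Lib.Repr.DiagWeight
import Groth.Agent.Lib.MonoHom.ClosedImmersion
import Groth.Agent.Lib.DiagGrp.BaseChange

/-!
Conjugacy of finite diagonalisable subgroups of `GL_N` over a field and over an extension.
-/

universe u

open CategoryTheory MonoidalCategory CartesianMonoidalCategory MonObj GrpObj AlgebraicGeometry VecGrp
open scoped TensorProduct

noncomputable section

namespace GrothLib.Repr

section DMat

variable {k : Type u} [Field k] {M : Type} [AddCommGroup M] [Fintype M] {N : ℕ}
  {R : Type u} [CommRing R] [Algebra k R]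

/-- The matrix of a character in a family of projections. -/
def dMat (A : M → Matrix (Fin N) (Fin N) k) (χ : Multiplicative M →* R) : Matrix (Fin N) (Fin N) R :=
  ∑ a, χ (Multiplicative.ofAdd a) • (A a).map (algebraMap k R)

/-- The family separates characters. -/
def Faithful (A : M → Matrix (Fin N) (Fin N) k) : Prop :=
  ∀ (R : Type u) [CommRing R] [Algebra k R], Function.Injective (dMat A : (Multiplicative M →* R) → _)

theorem map_dMat (A : M → Matrix (Fin N) (Fin N) k) (χ : Multiplicative M →* R) {R' : Type u} [CommRing R']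
    [Algebra k R'] (f : R →ₐ[k] R') : (dMat A χ).map f = dMat A ((f : R →* R').comp χ) := by
  ext i j
  simp only [dMat, Matrix.map_apply, entry_sum, map_sum, AlgHom.map_smul_of_tower]
  rfl

theorem dMat_mul [DecidableEq M] {A : M → Matrix (Fin N) (Fin N) k} (hA : IsIdemFamily A)
    (χ χ' : Multiplicative M →* R) : dMat A (χ * χ') = dMat A χ * dMat A χ' := by
  simp only [dMat, MonoidHom.mul_apply, Finset.sum_mul_sum, Matrix.smul_mul, Matrix.mul_smul, smul_smul,
    ← Matrix.map_mul, hA.mul]
  refine Finset.sum_congr rfl fun a _ => ?_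
  rw [Finset.sum_eq_single a (fun b _ hb => by rw [if_neg hb.symm, Matrix.map_zero _ (map_zero _), smul_zero])
    (by simp), if_pos rfl, _root_.mul_comm]

theorem conj_dMat (g g' : Matrix (Fin N) (Fin N) k) (A : M → Matrix (Fin N) (Fin N) k) (χ : Multiplicative M →* R) :
    g.map (algebraMap k R) * dMat A χ * g'.map (algebraMap k R) = dMat (fun a => g * A a * g') χ := by
  simp only [dMat, Matrix.mul_sum, Matrix.sum_mul, Matrix.mul_smul, Matrix.smul_mul, Matrix.map_mul]

theorem dMat_comp (B : M → Matrix (Fin N) (Fin N) k) (c : M ≃+ M) (χ : Multiplicative M →* R) :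
    dMat (fun a => B (c.symm a)) χ = dMat B (χ.comp c.toAddMonoidHom.toMultiplicative) := by
  rw [dMat, dMat, ← Equiv.sum_comp c.toEquiv]
  refine Finset.sum_congr rfl fun a _ => ?_
  simp

theorem dMat_tower {K : Type u} [Field K] [Algebra k K] [Algebra K R] [IsScalarTower k K R]
    (A : M → Matrix (Fin N) (Fin N) k) (χ : Multiplicative M →* R) :
    dMat (fun a => (A a).map (algebraMap k K)) χ = dMat A χ := by
  refine Finset.sum_congr rfl fun a _ => ?_
  rw [Matrix.map_map, IsScalarTower.algebraMap_eq k K R]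
  rfl

variable [DecidableEq M]

omit [Algebra k R] in
/-- Families defining the same subgroup differ by an automorphism of the characters. -/
theorem exists_equiv {A B : M → Matrix (Fin N) (Fin N) k} (hA : IsIdemFamily A) (hB : IsIdemFamily B)
    (hAf : Faithful A) (hBf : Faithful B)
    (h₁ : ∀ (R : Type u) [CommRing R] [Algebra k R] (χ : Multiplicative M →* R), ∃ χ', dMat A χ = dMat B χ')
    (h₂ : ∀ (R : Type u) [CommRing R] [Algebra k R] (χ : Multiplicative M →* R), ∃ χ', dMat B χ = dMat A χ') :
    ∃ c : M ≃+ M, ∀ b, A (c b) = B b := by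
  choose Φ hΦ using h₁
  choose Ψ hΨ using h₂
  obtain ⟨c, hc⟩ := exists_map_of_natural (k := k) (fun R _ _ χ => Φ R χ)
    (fun R R' _ _ _ _ f χ => hBf R' (by rw [← hΦ, ← map_dMat, ← map_dMat, hΦ]))
    (fun R _ _ χ χ' => hBf R (by rw [← hΦ, dMat_mul hA, hΦ, hΦ, dMat_mul hB]))
  obtain ⟨d, hd⟩ := exists_map_of_natural (k := k) (fun R _ _ χ => Ψ R χ)
    (fun R R' _ _ _ _ f χ => hAf R' (by rw [← hΨ, ← map_dMat, ← map_dMat, hΨ]))
    (fun R _ _ χ χ' => hAf R (by rw [← hΨ, dMat_mul hB, hΨ, hΨ, dMat_mul hA]))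
  have hinj : Function.Injective fun a : M => univChar k M (Multiplicative.ofAdd a) :=
    MonoidAlgebra.of_injective.comp Multiplicative.ofAdd.injective
  have hdc : ∀ x, d (c x) = x := fun x => hinj <| by
    have h := hBf _ ((hΨ _ (univChar k M)).trans (hΦ _ (Ψ _ (univChar k M))))
    rw [hc, hd] at h
    exact congr($h (Multiplicative.ofAdd x)).symm
  have hcd : ∀ x, c (d x) = x := fun x => hinj <| by
    have h := hAf _ ((hΦ _ (univChar k M)).trans (hΨ _ (Φ _ (univChar k M))))
    rw [hd, hc] at h
    exact congr($h (Multiplicative.ofAdd x)).symm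
  refine ⟨{ c with invFun := d, left_inv := hdc, right_inv := hcd }, fun b => ?_⟩
  ext i j
  have h := congrArg (fun X : Matrix (Fin N) (Fin N) (MonoidAlgebra k (Multiplicative M)) =>
    (X i j).coeff (Multiplicative.ofAdd (c b))) (hΦ _ (univChar k M))
  rw [hc, dMat, dMat, entry_sum (fun a => univChar k M (Multiplicative.ofAdd a)) A,
    show (∑ a, (univChar k M).comp c.toMultiplicative (Multiplicative.ofAdd a) •
      (B a).map (algebraMap k (MonoidAlgebra k (Multiplicative M)))) i j =
        ∑ a, B a i j • monChar (k := k) c (Multiplicative.ofAdd a) from entry_sum _ B i j,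
    show ∑ a, A a i j • univChar k M (Multiplicative.ofAdd a) =
      ∑ a, A a i j • monChar (k := k) (AddMonoidHom.id M) (Multiplicative.ofAdd a) from rfl,
    coeff_sum_monChar, coeff_sum_monChar] at h
  simp only [AddMonoidHom.id_apply, Finset.sum_ite_eq', Finset.mem_univ, if_true] at h
  refine h.trans ((Finset.sum_eq_single b (fun a _ ha => if_neg fun e => ha ?_) (by simp)).trans (if_pos rfl))
  rw [← hdc a, e, hdc]

/-- A diagonal family with prescribed ranks. -/
theorem exists_diag {L : Type u} [Field L] {A : M → Matrix (Fin N) (Fin N) L} (hA : IsIdemFamily A) :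
    ∃ E : M → Matrix (Fin N) (Fin N) k, IsIdemFamily E ∧ ∀ a, (E a).rank = (A a).rank := by
  classical
  choose U V hUV hVU using fun a => exists_split (A a) (by rw [hA.mul, if_pos rfl])
  have hcard : Fintype.card (Σ a, Fin (A a).rank) = N := by
    let Uf : Matrix (Fin N) (Σ a, Fin (A a).rank) L := fun i p => U p.1 i p.2
    let Vf : Matrix (Σ a, Fin (A a).rank) (Fin N) L := fun p j => V p.1 p.2 j
    have h1 : Uf * Vf = 1 := by
      rw [← hA.sum]
      ext i j
      rw [Matrix.mul_apply, Matrix.sum_apply, ← Finset.univ_sigma_univ, Finset.sum_sigma]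
      exact Finset.sum_congr rfl fun a _ => (congr($(hUV a) i j))
    have h2 : Vf * Uf = 1 := by
      ext ⟨a, p⟩ ⟨b, q⟩
      show (V a * U b) p q = _
      have e : V a * U b = V a * (A a * A b) * U b := by
        refine Eq.trans ?_ (congrArg₂ (fun X Y => V a * (X * Y) * U b) (hUV a) (hUV b))
        simp only [Matrix.mul_assoc, hVU, Matrix.mul_one]
        rw [← Matrix.mul_assoc (V a), hVU, Matrix.one_mul]
      rw [e, hA.mul]
      by_cases hab : a = b
      · subst hab
        rw [if_pos rfl]
        have e' : V a * A a * U a = 1 := by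
          refine (congrArg (fun X => V a * X * U a) (hUV a).symm).trans ?_
          simp only [← Matrix.mul_assoc, hVU, Matrix.one_mul]
        refine (congr($e' p q)).trans ?_
        by_cases hpq : p = q
        · subst hpq; simp
        · simp [hpq]
      · rw [if_neg hab, Matrix.mul_zero, Matrix.zero_mul, Matrix.one_apply_ne (fun h => hab (congrArg Sigma.fst h))]
        rfl
    have h3 : Fintype.card (Σ a, Fin (A a).rank) ≤ N := by
      have := (Matrix.rank_mul_le_left Vf Uf).trans (Matrix.rank_le_card_width Vf)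
      rwa [h2, Matrix.rank_one, Fintype.card_fin] at this
    have h4 : N ≤ Fintype.card (Σ a, Fin (A a).rank) := by
      have := (Matrix.rank_mul_le_left Uf Vf).trans (Matrix.rank_le_card_width Uf)
      rwa [h1, Matrix.rank_one, Fintype.card_fin] at this
    exact le_antisymm h3 h4
  let e : Fin N ≃ Σ a, Fin (A a).rank := (finCongr hcard.symm).trans (Fintype.equivFin _).symm
  refine ⟨fun a => Matrix.diagonal fun i => if (e i).1 = a then 1 else 0, ⟨fun a b => ?_, ?_⟩, fun a => ?_⟩
  · rw [Matrix.diagonal_mul_diagonal]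
    split_ifs with hab
    · subst hab
      congr 1
      funext i
      split_ifs <;> simp
    · rw [← Matrix.diagonal_zero]
      congr 1
      funext i
      by_cases h : (e i).1 = a
      · simp [h, hab]
      · simp [h]
  · ext i j
    by_cases hij : i = j
    · subst hij
      simp [Matrix.sum_apply]
    · simp [Matrix.sum_apply, hij]
  · rw [Matrix.rank_diagonal]
    refine Eq.trans ?_ (Fintype.card_fin _)
    refine Fintype.card_congr ?_
    refine (Equiv.subtypeEquiv e fun i => ?_).trans (Equiv.sigmaSubtype a)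
    simp

end DMat

section Groups

variable {k : Type u} [Field k] {M : Type} [AddCommGroup M]

theorem exists_chart {σ : Over (Spec (CommRingCat.of k))} [GrpObj σ]
    (h : Red.IsSplitTorusWith M σ) : ∃ e : σ ≅ dsch k M, IsMonHom e.hom ∧ IsMonHom e.inv := by
  obtain ⟨e⟩ := h
  exact ⟨(Grp.forget _).mapIso e, e.hom.hom.isMonHom_hom, e.inv.hom.isMonHom_hom⟩

/-- The automorphism of a diagonalisable group given by one of the characters. -/
def dsIso (c : M ≃+ M) : dsch k M ≅ dsch k M where
  hom := Red.DSmap _ c.toAddMonoidHom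
  inv := Red.DSmap _ c.symm.toAddMonoidHom
  hom_inv_id := GrothLib.DiagGrp.ds_hom_ext fun C _ p χ => by
    rw [← Category.assoc, GrothLib.DiagGrp.dsPoint_DSmap, GrothLib.DiagGrp.dsPoint_DSmap, Category.comp_id]
    congr 1
    ext m
    simp
  inv_hom_id := GrothLib.DiagGrp.ds_hom_ext fun C _ p χ => by
    rw [← Category.assoc, GrothLib.DiagGrp.dsPoint_DSmap, GrothLib.DiagGrp.dsPoint_DSmap, Category.comp_id]
    congr 1
    ext m
    simp

variable [Fintype M] {N : ℕ}

theorem faithful_of_mono [DecidableEq M] (α : dsch k M ⟶ GLsch k N) [Mono α] :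
    Faithful (dWeight α) := fun R _ _ χ χ' h => by
  refine (dPt k M).injective ((cancel_mono α).1 (pMat_injective ?_))
  exact (matOf_dPt α χ).trans (h.trans (matOf_dPt α χ').symm)

theorem mono_of_faithful {A : M → Matrix (Fin N) (Fin N) k} (hA : Faithful A) (α : dsch k M ⟶ GLsch k N)
    (hα : ∀ (R : Type u) [CommRing R] [Algebra k R] (χ : Multiplicative M →* R), matOf α (dPt k M χ) = dMat A χ) :
    Mono α := ⟨fun {T} a b hab => hom_ext_pts fun R _ _ u => by
  obtain ⟨χ, hχ⟩ := (dPt k M).surjective (u ≫ a)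
  obtain ⟨χ', hχ'⟩ := (dPt k M).surjective (u ≫ b)
  rw [← hχ, ← hχ', hA R ((hα R χ).symm.trans ((show matOf α (dPt k M χ) = matOf α (dPt k M χ') by
    rw [hχ, hχ', matOf, matOf, Category.assoc, Category.assoc, hab]).trans (hα R χ')))]⟩

instance locallyOfFiniteType_dsch : LocallyOfFiniteType (dsch k M).hom :=
  haveI := GrothLib.DiagGrp.locallyOfFinitePresentation_diag.{u} M AddGroup.fg_of_finite
  MorphismProperty.pullback_snd _ _ inferInstance

/-- The point of the unit group as the point with values in the field. -/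
def selfPt (k : Type u) [Field k] : 𝟙_ (Over (Spec (CommRingCat.of k))) ≅ pt k k :=
  Over.isoMk (Iso.refl _) (by
    show 𝟙 _ ≫ Spec.map (CommRingCat.ofHom (algebraMap k k)) = 𝟙 _
    rw [Category.id_comp]
    exact Spec.map_id _)

theorem toUnit_selfPt {R : Type u} [CommRing R] [Algebra k R] :
    toUnit (pt k R) ≫ (selfPt k).hom = ptMap (Algebra.ofId k R) :=
  (cancel_mono (selfPt k).inv).1 (toUnit_unique _ _)

/-- The rational point of `GL_N` of an invertible matrix. -/
theorem exists_point (g g' : Matrix (Fin N) (Fin N) k) (h : g * g' = 1) :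
    ∃ p : pt k k ⟶ GLsch k N, pMat p = g :=
  ⟨Spec.mapMulEquiv (WithConv.toConv (GrothLib.HMG.ofMat (k := k) g (Matrix.isUnit_det_of_right_inverse h))),
    (pMat_mapMulEquiv _).trans (GrothLib.HMG.mat_ofMat _ _)⟩

theorem pMat_inv_mul {R : Type u} [CommRing R] [Algebra k R] (p : pt k R ⟶ GLsch k N) :
    pMat p⁻¹ * pMat p = 1 ∧ pMat p * pMat p⁻¹ = 1 := by
  rw [← pMat_mul, ← pMat_mul, inv_mul_cancel, mul_inv_cancel, pMat_one]
  exact ⟨rfl, rfl⟩

variable (k)
variable (K : Type u) [Field K] [Algebra k K]

/-- A `K`-algebra as a `k`-algebra. -/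
abbrev towerAlg (R : Type u) [CommRing R] [Algebra K R] : Algebra k R :=
  ((algebraMap K R).comp (algebraMap k K)).toAlgebra

variable {k K} {R : Type u} [CommRing R] [Algebra K R] [Algebra k R] [IsScalarTower k K R]

/-- Points of a base changed group, multiplicatively. -/
def qPtHom (G : Over (Spec (CommRingCat.of k))) [GrpObj G] : (pt k R ⟶ G) ≃* (pt K R ⟶ Red.bc (bcm k K) G) where
  toEquiv := qPt G
  map_mul' := qPt_mul G

theorem conjBy_pullback_qPt {σ G : Over (Spec (CommRingCat.of k))} [GrpObj G] (p : pt k K ⟶ G) (i : σ ⟶ G)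
    (u : pt k R ⟶ σ) :
    qPt (K := K) σ u ≫ AGF.conjBy ((selfPt K).hom ≫ qPt (K := K) (R := K) G p) ((Over.pullback (bcm k K)).map i) =
      qPt G ((ptMap (IsScalarTower.toAlgHom k K R) ≫ p) * (u ≫ i) * (ptMap (IsScalarTower.toAlgHom k K R) ≫ p)⁻¹) := by
  have e : toUnit (pt K R) ≫ (selfPt K).hom ≫ qPt (K := K) (R := K) G p =
      qPt (K := K) G (ptMap (IsScalarTower.toAlgHom k K R) ≫ p) := by
    rw [← Category.assoc, toUnit_selfPt, qPt_natural]
    rfl
  rw [AGF.conjBy, MonObj.comp_mul, MonObj.comp_mul, GrpObj.comp_inv, ← Category.assoc (qPt σ u),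
    comp_toUnit, e, qPt_comp]
  exact (((map_mul (qPtHom (K := K) G) _ _).trans (congrArg₂ (· * ·) (map_mul (qPtHom (K := K) G) _ _)
    (map_inv (qPtHom (K := K) G) _)))).symm

end Groups

end GrothLib.Repr
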