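import Groth.Agent.Lib.Repr.DiagConj

/-!
Comparison of `GL_N` and of finite diagonalisable groups with their base changes along a field extension.
-/

universe u

open CategoryTheory MonoidalCategory CartesianMonoidalCategory MonObj GrpObj AlgebraicGeometry VecGrp

noncomputable section

namespace GrothLib.Repr

variable {k : Type u} [Field k] {K : Type u} [Field K] [Algebra k K] {N : ℕ}

theorem qPt_natural_tower {R R' : Type u} [CommRing R] [Algebra K R] [Algebra k R] [IsScalarTower k K R]
    [CommRing R'] [Algebra K R'] [Algebra k R'] [IsScalarTower k K R'] (f : R →ₐ[K] R')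
    (X : Over (Spec (CommRingCat.of k))) (v : pt K R ⟶ Red.bc (bcm k K) X) :
    ptMap (f.restrictScalars k) ≫ (qPt (K := K) X).symm v = (qPt (K := K) X).symm (ptMap f ≫ v) := by
  apply (qPt (K := K) X).injective
  rw [Equiv.apply_symm_apply, ← qPt_natural, Equiv.apply_symm_apply]

variable (k K N)

/-- `GL_N` over the extension is the base change. -/
theorem exists_glTower : ∃ θ : Red.bc (bcm k K) (GLsch k N) ⟶ GLsch K N, IsMonHom θ ∧ Mono θ ∧
    ∀ (R : Type u) [CommRing R] [Algebra K R] [Algebra k R] [IsScalarTower k K R] (u : pt k R ⟶ GLsch k N),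
      pMat (qPt (K := K) _ u ≫ θ) = pMat u := by
  let C := fun (R : Type u) [CommRing R] [Algebra K R] (v : pt K R ⟶ Red.bc (bcm k K) (GLsch k N)) =>
    letI := towerAlg k K R
    haveI : IsScalarTower k K R := IsScalarTower.of_algebraMap_eq' rfl
    pMat ((qPt (K := K) _).symm v)
  have hdet : ∀ (R : Type u) [CommRing R] [Algebra K R] (v : pt K R ⟶ Red.bc (bcm k K) (GLsch k N)),
      IsUnit (C R v).det := fun R _ _ v => by
    letI := towerAlg k K R
    haveI : IsScalarTower k K R := IsScalarTower.of_algebraMap_eq' rfl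
    exact Matrix.isUnit_det_of_right_inverse (pMat_inv_mul _).2
  have e1 : ∀ (R : Type u) [CommRing R] [Algebra K R] (v : pt K R ⟶ Red.bc (bcm k K) (GLsch k N)),
      pMat (k := K) (Spec.mapMulEquiv (WithConv.toConv (GrothLib.HMG.ofMat (k := K) (C R v) (hdet R v)))) = C R v :=
    fun R _ _ v => (pMat_mapMulEquiv _).trans (GrothLib.HMG.mat_ofMat _ _)
  obtain ⟨θ, hθ⟩ := exists_hom_of_natural (k := K) (X := GLsch K N)
    (fun R _ _ v => Spec.mapMulEquiv (WithConv.toConv (GrothLib.HMG.ofMat (k := K) (C R v) (hdet R v))))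
    (fun R R' _ _ _ _ f v => by
      letI := towerAlg k K R
      haveI : IsScalarTower k K R := IsScalarTower.of_algebraMap_eq' rfl
      letI := towerAlg k K R'
      haveI : IsScalarTower k K R' := IsScalarTower.of_algebraMap_eq' rfl
      refine pMat_injective ?_
      rw [← map_pMat, e1, e1]
      refine Eq.trans ?_ (congrArg pMat (qPt_natural_tower f _ v))
      exact map_pMat (f.restrictScalars k) _)
  have hC : ∀ (R : Type u) [CommRing R] [Algebra K R] (v : pt K R ⟶ Red.bc (bcm k K) (GLsch k N)),
      pMat (v ≫ θ) = C R v := fun R _ _ v => by rw [hθ, e1]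
  have hCu : ∀ (R : Type u) [CommRing R] [Algebra K R] [Algebra k R] [IsScalarTower k K R]
      (u : pt k R ⟶ GLsch k N), pMat (qPt (K := K) _ u ≫ θ) = pMat u := by
    intro R _ _ inst _ u
    obtain rfl : inst = towerAlg k K R := Algebra.algebra_ext _ _ fun r =>
      congr($(IsScalarTower.algebraMap_eq k K R) r)
    letI := towerAlg k K R
    haveI : IsScalarTower k K R := IsScalarTower.of_algebraMap_eq' rfl
    rw [hC]
    exact congrArg pMat (Equiv.symm_apply_apply _ u)
  refine ⟨θ, GrothLib.GrpSchField.isMonHom_of_mul _ (hom_ext_pts fun R _ _ p => ?_),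
    ⟨fun {T} a b hab => hom_ext_pts fun R _ _ v => ?_⟩, hCu⟩
  · letI := towerAlg k K R
    haveI : IsScalarTower k K R := IsScalarTower.of_algebraMap_eq' rfl
    rw [← GrothLib.GrpSchField.lift_fst_snd_comp p]
    generalize p ≫ fst _ _ = a
    generalize p ≫ snd _ _ = b
    obtain ⟨a, rfl⟩ := (qPtHom (k := k) (K := K) (GLsch k N)).surjective a
    obtain ⟨b, rfl⟩ := (qPtHom (k := k) (K := K) (GLsch k N)).surjective b
    rw [← Category.assoc, ← Hom.mul_def, lift_map_assoc, ← Hom.mul_def, ← map_mul]
    refine pMat_injective ?_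
    rw [pMat_mul]
    refine (hCu R _).trans ((pMat_mul a b).trans ?_)
    exact (congrArg₂ (· * ·) (hCu R a) (hCu R b)).symm
  · letI := towerAlg k K R
    haveI : IsScalarTower k K R := IsScalarTower.of_algebraMap_eq' rfl
    obtain ⟨a', ha⟩ := (qPt (k := k) (K := K) (GLsch k N)).surjective (v ≫ a)
    obtain ⟨b', hb⟩ := (qPt (k := k) (K := K) (GLsch k N)).surjective (v ≫ b)
    have h2 : pMat (qPt (K := K) _ a' ≫ θ) = pMat (qPt (K := K) _ b' ≫ θ) := by
      rw [ha, hb, Category.assoc, Category.assoc, hab]
    rw [hCu, hCu] at h2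
    rw [← ha, ← hb, pMat_injective h2]

/-- A diagonalisable group over the extension is the base change. -/
theorem exists_dsTower (M : Type) [AddCommGroup M] : ∃ δ : dsch K M ≅ Red.bc (bcm k K) (dsch k M),
    ∀ (R : Type u) [CommRing R] [Algebra K R] [Algebra k R] [IsScalarTower k K R] (χ : Multiplicative M →* R),
      dPt K M χ ≫ δ.hom = qPt (K := K) _ (dPt k M χ) := by
  obtain ⟨f, hf⟩ := exists_hom_of_natural (k := K) (T := dsch K M) (X := Red.bc (bcm k K) (dsch k M))
    (fun R _ _ u =>
      letI := towerAlg k K R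
      haveI : IsScalarTower k K R := IsScalarTower.of_algebraMap_eq' rfl
      qPt (K := K) _ (dPt k M ((dPt K M).symm u)))
    (fun R R' _ _ _ _ f u => by
      letI := towerAlg k K R
      haveI : IsScalarTower k K R := IsScalarTower.of_algebraMap_eq' rfl
      letI := towerAlg k K R'
      haveI : IsScalarTower k K R' := IsScalarTower.of_algebraMap_eq' rfl
      obtain ⟨χ, rfl⟩ := (dPt K M).surjective u
      rw [qPt_natural, dPt_map, dPt_map, MulEquiv.symm_apply_apply, MulEquiv.symm_apply_apply]
      rfl)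
  obtain ⟨g, hg⟩ := exists_hom_of_natural (k := K) (X := dsch K M) (T := Red.bc (bcm k K) (dsch k M))
    (fun R _ _ v =>
      letI := towerAlg k K R
      haveI : IsScalarTower k K R := IsScalarTower.of_algebraMap_eq' rfl
      dPt K M ((dPt k M).symm ((qPt (K := K) _).symm v)))
    (fun R R' _ _ _ _ f v => by
      letI := towerAlg k K R
      haveI : IsScalarTower k K R := IsScalarTower.of_algebraMap_eq' rfl
      letI := towerAlg k K R'
      haveI : IsScalarTower k K R' := IsScalarTower.of_algebraMap_eq' rfl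
      rw [dPt_map, ← qPt_natural_tower f]
      obtain ⟨χ, hχ⟩ := (dPt k M).surjective ((qPt (K := K) _).symm v)
      rw [← hχ, dPt_map, MulEquiv.symm_apply_apply, MulEquiv.symm_apply_apply]
      rfl)
  refine ⟨⟨f, g, hom_ext_pts fun R _ _ u => ?_, hom_ext_pts fun R _ _ v => ?_⟩, fun R _ _ inst _ χ => ?_⟩
  · simp only [← Category.assoc, hf, hg, Category.comp_id, Equiv.symm_apply_apply, MulEquiv.symm_apply_apply,
      MulEquiv.apply_symm_apply]
  · simp only [← Category.assoc, hf, hg, Category.comp_id, Equiv.apply_symm_apply, MulEquiv.symm_apply_apply,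
      MulEquiv.apply_symm_apply]
  · obtain rfl : inst = towerAlg k K R := Algebra.algebra_ext _ _ fun r =>
      congr($(IsScalarTower.algebraMap_eq k K R) r)
    letI := towerAlg k K R
    haveI : IsScalarTower k K R := IsScalarTower.of_algebraMap_eq' rfl
    rw [hf, MulEquiv.symm_apply_apply]

end GrothLib.Repr
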