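import Mathlib.LinearAlgebra.Matrix.Rank
import Mathlib.LinearAlgebra.Matrix.ToLin
import Mathlib.LinearAlgebra.Dimension.Free

/-!
Conjugacy of complete families of orthogonal idempotent matrices over a field.
-/

universe u v

namespace GrothLib.Repr

open Matrix

variable {k : Type u} [Field k] {N : ℕ}

/-- An idempotent matrix splits through its rank. -/
theorem exists_split (A : Matrix (Fin N) (Fin N) k) (hA : A * A = A) :
    ∃ (U : Matrix (Fin N) (Fin A.rank) k) (V : Matrix (Fin A.rank) (Fin N) k), U * V = A ∧ V * U = 1 := by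
  let P := A.mulVecLin
  let b := Module.finBasisOfFinrankEq k P.range (rfl : Module.finrank k P.range = A.rank)
  let Ul : (Fin A.rank → k) →ₗ[k] (Fin N → k) := P.range.subtype ∘ₗ b.equivFun.symm.toLinearMap
  let Vl : (Fin N → k) →ₗ[k] (Fin A.rank → k) := b.equivFun.toLinearMap ∘ₗ P.rangeRestrict
  refine ⟨LinearMap.toMatrix' Ul, LinearMap.toMatrix' Vl, ?_, ?_⟩
  · rw [← LinearMap.toMatrix'_comp]
    refine (congrArg LinearMap.toMatrix' (LinearMap.ext fun x => ?_)).trans (LinearMap.toMatrix'_toLin' A)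
    simp only [Ul, Vl, LinearMap.comp_apply]
    exact congrArg Subtype.val (b.equivFun.symm_apply_apply (P.rangeRestrict x))
  · rw [← LinearMap.toMatrix'_comp, ← LinearMap.toMatrix'_id]
    refine congrArg LinearMap.toMatrix' (LinearMap.ext fun x => ?_)
    simp only [Ul, Vl, LinearMap.comp_apply, LinearEquiv.coe_coe, LinearMap.id_apply]
    obtain ⟨y, hy⟩ := (b.equivFun.symm x).2
    have h : P.rangeRestrict ((b.equivFun.symm x : P.range) : Fin N → k) = b.equivFun.symm x := by
      refine Subtype.ext ?_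
      change P ((b.equivFun.symm x : P.range) : Fin N → k) = _
      rw [← hy]
      show A *ᵥ (A *ᵥ y) = A *ᵥ y
      rw [mulVec_mulVec, hA]
    exact (congrArg b.equivFun h).trans (LinearEquiv.apply_symm_apply _ _)

theorem exists_split_of_rank (A : Matrix (Fin N) (Fin N) k) (hA : A * A = A) {r : ℕ} (hr : A.rank = r) :
    ∃ (U : Matrix (Fin N) (Fin r) k) (V : Matrix (Fin r) (Fin N) k), U * V = A ∧ V * U = 1 := by
  subst hr
  exact exists_split A hA

theorem rank_map_of_idempotent {L : Type v} [Field L] (f : k →+* L) (A : Matrix (Fin N) (Fin N) k)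
    (hA : A * A = A) : (A.map f).rank = A.rank := by
  obtain ⟨U, V, hUV, hVU⟩ := exists_split A hA
  have hA' : A.map f = U.map f * V.map f := by rw [← Matrix.map_mul, hUV]
  have h1 : V.map f * U.map f = 1 := by
    rw [← Matrix.map_mul, hVU, Matrix.map_one _ (map_zero f) (map_one f)]
  refine le_antisymm ?_ ?_
  · rw [hA']
    exact (rank_mul_le_left _ _).trans (rank_le_width _)
  · calc A.rank = (1 : Matrix (Fin A.rank) (Fin A.rank) L).rank := by rw [rank_one, Fintype.card_fin]
      _ = (V.map f * (A.map f * U.map f)).rank := by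
          rw [hA', ← Matrix.mul_assoc, ← Matrix.mul_assoc, h1, Matrix.one_mul, h1]
      _ ≤ _ := (rank_mul_le_right _ _).trans (rank_mul_le_left _ _)

theorem rank_conj {L : Type v} [Field L] (g g' A : Matrix (Fin N) (Fin N) L) (h : g' * g = 1) :
    (g * A * g').rank = A.rank := by
  refine le_antisymm ((rank_mul_le_left _ _).trans (rank_mul_le_right _ _)) ?_
  conv_lhs => rw [show A = g' * (g * A * g') * g by
    rw [← Matrix.mul_assoc, ← Matrix.mul_assoc, h, Matrix.one_mul, Matrix.mul_assoc, h, Matrix.mul_one]]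
  exact (rank_mul_le_left _ _).trans (rank_mul_le_right _ _)

/-- A complete family of orthogonal idempotents. -/
structure IsIdemFamily {M : Type*} [Fintype M] [DecidableEq M] {R : Type*} [CommRing R]
    (A : M → Matrix (Fin N) (Fin N) R) : Prop where
  mul : ∀ a b, A a * A b = if a = b then A a else 0
  sum : ∑ a, A a = 1

variable {M : Type*} [Fintype M] [DecidableEq M] {A B : M → Matrix (Fin N) (Fin N) k}

theorem exists_conj (hA : IsIdemFamily A) (hB : IsIdemFamily B) (h : ∀ a, (A a).rank = (B a).rank) :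
    ∃ g g' : Matrix (Fin N) (Fin N) k, g * g' = 1 ∧ g' * g = 1 ∧ ∀ a, g * A a * g' = B a := by
  have hAA : ∀ a, A a * A a = A a := fun a => by rw [hA.mul, if_pos rfl]
  have hBB : ∀ a, B a * B a = B a := fun a => by rw [hB.mul, if_pos rfl]
  choose U V hUV hVU using fun a => exists_split (A a) (hAA a)
  choose U₁ V₁ hUV₁ hVU₁ using fun a => exists_split_of_rank (B a) (hBB a) (h a).symm
  let X := fun a => U₁ a * V a
  let Y := fun a => U a * V₁ a
  have hXY : ∀ a, X a * Y a = B a := fun a => by
    simp only [X, Y]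
    rw [Matrix.mul_assoc, ← Matrix.mul_assoc (V a), hVU, Matrix.one_mul, hUV₁]
  have hYX : ∀ a, Y a * X a = A a := fun a => by
    simp only [X, Y]
    rw [Matrix.mul_assoc, ← Matrix.mul_assoc (V₁ a), hVU₁, Matrix.one_mul, hUV]
  have hXA : ∀ a, X a * A a = X a := fun a => by
    refine (congrArg (U₁ a * V a * ·) (hUV a).symm).trans ?_
    rw [Matrix.mul_assoc, ← Matrix.mul_assoc (V a), hVU, Matrix.one_mul]
  have hAY : ∀ a, A a * Y a = Y a := fun a => by
    refine (congrArg (· * (U a * V₁ a)) (hUV a).symm).trans ?_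
    rw [Matrix.mul_assoc, ← Matrix.mul_assoc (V a), hVU, Matrix.one_mul]
  have hBX : ∀ a, B a * X a = X a := fun a => by
    rw [← hXY, Matrix.mul_assoc, hYX, hXA]
  have hYB : ∀ a, Y a * B a = Y a := fun a => by
    rw [← hXY, ← Matrix.mul_assoc, hYX, hAY]
  have hXY0 : ∀ a b, a ≠ b → X a * Y b = 0 := fun a b hab => by
    rw [← hXA a, ← hAY b, Matrix.mul_assoc, ← Matrix.mul_assoc (A a), hA.mul, if_neg hab, Matrix.zero_mul,
      Matrix.mul_zero]
  have hYX0 : ∀ a b, a ≠ b → Y a * X b = 0 := fun a b hab => by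
    rw [← hYB a, ← hBX b, Matrix.mul_assoc, ← Matrix.mul_assoc (B a), hB.mul, if_neg hab, Matrix.zero_mul,
      Matrix.mul_zero]
  refine ⟨∑ a, X a, ∑ a, Y a, ?_, ?_, fun c => ?_⟩
  · rw [Finset.sum_mul_sum, ← hB.sum]
    refine Finset.sum_congr rfl fun a _ => ?_
    rw [Finset.sum_eq_single a (fun b _ hb => hXY0 a b hb.symm) (by simp), hXY]
  · rw [Finset.sum_mul_sum, ← hA.sum]
    refine Finset.sum_congr rfl fun a _ => ?_
    rw [Finset.sum_eq_single a (fun b _ hb => hYX0 a b hb.symm) (by simp), hYX]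
  · have e : (∑ a, X a) * A c = X c := by
      rw [Matrix.sum_mul, Finset.sum_eq_single c (fun b _ hb => ?_) (by simp), hXA]
      rw [← hXA b, Matrix.mul_assoc, hA.mul, if_neg hb, Matrix.mul_zero]
    rw [e, Matrix.mul_sum, Finset.sum_eq_single c (fun b _ hb => hXY0 c b hb.symm) (by simp), hXY]

end GrothLib.Repr
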