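import Groth.Agent.Lib.Repr.AffineSpaceRep
import Groth.Agent.Lib.Repr.SplitIdem
import Groth.Agent.Lib.DiagGrp.CharHom

/-!
Matrix representations of finite diagonalisable groups over a field.
-/

universe u

open CategoryTheory MonoidalCategory CartesianMonoidalCategory MonObj GrpObj AlgebraicGeometry VecGrp

noncomputable section

namespace GrothLib.Repr

section Points

variable (k : Type u) [Field k] (M : Type) [AddCommGroup M] {R : Type u} [CommRing R] [Algebra k R]

/-- The diagonalisable group over the field. -/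
abbrev dsch : Over (Spec (CommRingCat.of k)) := Red.DS (Spec (CommRingCat.of k)) M

/-- The point attached to a character. -/
def dPt : (Multiplicative M →* R) ≃* (pt k R ⟶ dsch k M) :=
  GrothLib.DiagGrp.dsPoint M (Spec (CommRingCat.of R) ↘ Spec (CommRingCat.of k))

variable {k M}

theorem dPt_map {R' : Type u} [CommRing R'] [Algebra k R'] (f : R →ₐ[k] R') (χ : Multiplicative M →* R) :
    ptMap f ≫ dPt k M χ = dPt k M ((f : R →* R').comp χ) :=
  GrothLib.DiagGrp.dsPoint_comp (M := M) _ _ f.toRingHom χ (Over.w (ptMap f))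

theorem dPt_DSmap {M' : Type} [AddCommGroup M'] (φ : M' →+ M) (χ : Multiplicative M →* R) :
    dPt k M χ ≫ Red.DSmap (Spec (CommRingCat.of k)) φ = dPt k M' (χ.comp φ.toMultiplicative) :=
  GrothLib.DiagGrp.dsPoint_DSmap _ φ χ

variable (k M) in
/-- The universal character. -/
def univChar : Multiplicative M →* MonoidAlgebra k (Multiplicative M) := MonoidAlgebra.of k (Multiplicative M)

/-- Evaluation at a character. -/
def evalChar (χ : Multiplicative M →* R) : MonoidAlgebra k (Multiplicative M) →ₐ[k] R :=
  MonoidAlgebra.lift k R (Multiplicative M) χ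

theorem evalChar_univ (χ : Multiplicative M →* R) :
    ((evalChar χ : MonoidAlgebra k (Multiplicative M) →ₐ[k] R) : MonoidAlgebra k (Multiplicative M) →* R).comp
      (univChar k M) = χ :=
  MonoidHom.ext fun m => by simp [evalChar, univChar]

theorem evalChar_apply [Fintype M] (χ : Multiplicative M →* R) (p : MonoidAlgebra k (Multiplicative M)) :
    evalChar χ p = ∑ a : M, p.coeff (Multiplicative.ofAdd a) • χ (Multiplicative.ofAdd a) := by
  rw [evalChar, MonoidAlgebra.lift_apply, Finsupp.sum_fintype _ _ (fun _ => by simp)]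
  exact (Equiv.sum_comp Multiplicative.ofAdd (fun m => p.coeff m • χ m)).symm

/-- The monomial character of an additive map. -/
def monChar {P : Type} [AddCommGroup P] (f : M →+ P) : Multiplicative M →* MonoidAlgebra k (Multiplicative P) :=
  (univChar k P).comp f.toMultiplicative

theorem monChar_mul_inl_inr (x y : M) :
    monChar (k := k) (AddMonoidHom.inl M M) (Multiplicative.ofAdd x) *
        monChar (AddMonoidHom.inr M M) (Multiplicative.ofAdd y) =
      monChar (AddMonoidHom.id (M × M)) (Multiplicative.ofAdd (x, y)) := by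
  refine (map_mul (univChar k (M × M)) _ _).symm.trans (congrArg (univChar k (M × M)) ?_)
  show Multiplicative.ofAdd ((x, (0 : M)) + ((0 : M), y)) = Multiplicative.ofAdd (x, y)
  simp

theorem monChar_inl_mul_inr : monChar (k := k) (AddMonoidHom.inl M M) * monChar (AddMonoidHom.inr M M) =
    monChar ((AddMonoidHom.id M).prod (AddMonoidHom.id M)) :=
  MonoidHom.ext fun m => monChar_mul_inl_inr (Multiplicative.toAdd m) (Multiplicative.toAdd m)

theorem coeff_sum_monChar {P : Type} [AddCommGroup P] [Fintype M] [DecidableEq P] (f : M →+ P) (c : M → k) (x : P) :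
    (∑ a, c a • monChar f (Multiplicative.ofAdd a)).coeff (Multiplicative.ofAdd x) =
      ∑ a, if f a = x then c a else 0 := by
  simp [monChar, univChar, Finsupp.single_apply, Finset.sum_apply']

end Points

section Weight

variable {k : Type u} [Field k] {M : Type} [AddCommGroup M] [Fintype M] [DecidableEq M] {N : ℕ}
  (α : dsch k M ⟶ GLsch k N)

/-- The weight projections. -/
def dWeight (a : M) : Matrix (Fin N) (Fin N) k :=
  (matOf α (dPt k M (univChar k M))).map fun p => p.coeff (Multiplicative.ofAdd a)

variable {R : Type u} [CommRing R] [Algebra k R]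

theorem matOf_dPt (χ : Multiplicative M →* R) :
    matOf α (dPt k M χ) = ∑ a, χ (Multiplicative.ofAdd a) • (dWeight α a).map (algebraMap k R) := by
  conv_lhs => rw [← evalChar_univ (k := k) χ, ← dPt_map, ← map_matOf]
  ext i j
  simp only [Matrix.map_apply, evalChar_apply, Matrix.sum_apply, Matrix.smul_apply, smul_eq_mul]
  exact Finset.sum_congr rfl fun a _ => (Algebra.smul_def _ _).trans (_root_.mul_comm _ _)

omit [DecidableEq M] in
theorem entry_sum (f : M → R) (A : M → Matrix (Fin N) (Fin N) k) (i j : Fin N) :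
    (∑ a, f a • (A a).map (algebraMap k R)) i j = ∑ a, A a i j • f a := by
  simp only [Matrix.sum_apply, Matrix.smul_apply, Matrix.map_apply, smul_eq_mul]
  exact Finset.sum_congr rfl fun a _ => (_root_.mul_comm _ _).trans (Algebra.smul_def _ _).symm

theorem isIdemFamily_dWeight [IsMonHom α] : IsIdemFamily (dWeight α) where
  sum := by
    have h := matOf_dPt α (1 : Multiplicative M →* k)
    rw [map_one, matOf_one] at h
    exact Eq.trans (Finset.sum_congr rfl fun a _ => by simp) h.symm
  mul a b := by
    let R₂ := MonoidAlgebra k (Multiplicative (M × M))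
    let χ₁ : Multiplicative M →* R₂ := monChar (AddMonoidHom.inl M M)
    let χ₂ : Multiplicative M →* R₂ := monChar (AddMonoidHom.inr M M)
    let Δ : M →+ M × M := (AddMonoidHom.id M).prod (AddMonoidHom.id M)
    have hd : χ₁ * χ₂ = monChar Δ := monChar_inl_mul_inr
    have h := matOf_dPt α (χ₁ * χ₂)
    rw [map_mul, matOf_mul, matOf_dPt, matOf_dPt, Finset.sum_mul_sum, hd] at h
    ext i j
    have h' := congrArg (fun X : Matrix (Fin N) (Fin N) R₂ => (X i j).coeff (Multiplicative.ofAdd (a, b))) h
    have e : ∀ c d : M, χ₁ (Multiplicative.ofAdd c) • (dWeight α c).map (algebraMap k R₂) *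
        (χ₂ (Multiplicative.ofAdd d) • (dWeight α d).map (algebraMap k R₂)) =
        monChar (k := k) (AddMonoidHom.id (M × M)) (Multiplicative.ofAdd (c, d)) •
          (dWeight α c * dWeight α d).map (algebraMap k R₂) := fun c d => by
      rw [Matrix.smul_mul, Matrix.mul_smul, smul_smul, ← Matrix.map_mul]
      congr 1
      exact monChar_mul_inl_inr c d
    simp only [e, ← Fintype.sum_prod_type'] at h'
    rw [entry_sum (fun q : M × M => monChar (AddMonoidHom.id (M × M)) (Multiplicative.ofAdd q))
      (fun q => dWeight α q.1 * dWeight α q.2), entry_sum, coeff_sum_monChar, coeff_sum_monChar] at h'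
    simp only [AddMonoidHom.id_apply, Finset.sum_ite_eq', Finset.mem_univ, if_true] at h'
    rw [h']
    by_cases hab : a = b
    · subst hab
      rw [if_pos rfl, Finset.sum_eq_single a (fun c _ hc => if_neg (by simp [Δ, hc])) (by simp), if_pos (by simp [Δ])]
    · rw [if_neg hab, Finset.sum_eq_zero (fun c _ => if_neg (by simp [Δ]; rintro rfl; exact hab))]
      simp

/-- A homomorphism from a complete family of orthogonal idempotents. -/
theorem exists_hom_of_idem {A : M → Matrix (Fin N) (Fin N) k} (hA : IsIdemFamily A) :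
    ∃ β : dsch k M ⟶ GLsch k N, IsMonHom β ∧ ∀ (R : Type u) [CommRing R] [Algebra k R] (χ : Multiplicative M →* R),
      matOf β (dPt k M χ) = ∑ a, χ (Multiplicative.ofAdd a) • (A a).map (algebraMap k R) := by
  let C := fun (R : Type u) [CommRing R] [Algebra k R] (u : pt k R ⟶ dsch k M) =>
    ∑ a, (dPt k M).symm u (Multiplicative.ofAdd a) • (A a).map (algebraMap k R)
  have hmul : ∀ (R : Type u) [CommRing R] [Algebra k R] (u v : pt k R ⟶ dsch k M),
      C R (u * v) = C R u * C R v := fun R _ _ u v => by
    simp only [C, map_mul, MonoidHom.mul_apply, Finset.sum_mul_sum, Matrix.smul_mul, Matrix.mul_smul,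
      smul_smul, ← Matrix.map_mul, hA.mul]
    refine Finset.sum_congr rfl fun a _ => ?_
    rw [Finset.sum_eq_single a (fun b _ hb => by rw [if_neg hb.symm, Matrix.map_zero _ (map_zero _), smul_zero])
      (by simp), if_pos rfl, _root_.mul_comm]
  have hone : ∀ (R : Type u) [CommRing R] [Algebra k R], C R 1 = 1 := fun R _ _ => by
    simp only [C, map_one, MonoidHom.one_apply, one_smul]
    rw [← Matrix.map_one (algebraMap k R) (map_zero _) (map_one _), ← hA.sum]
    exact (map_sum (algebraMap k R).mapMatrix A Finset.univ).symm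
  have hdet : ∀ (R : Type u) [CommRing R] [Algebra k R] (u : pt k R ⟶ dsch k M), IsUnit (C R u).det :=
    fun R _ _ u => Matrix.isUnit_det_of_right_inverse (B := C R u⁻¹) (by rw [← hmul, mul_inv_cancel, hone])
  obtain ⟨β, hβ⟩ := exists_hom_of_natural (X := GLsch k N)
    (fun R _ _ u => Spec.mapMulEquiv (WithConv.toConv (GrothLib.HMG.ofMat (k := k) (C R u) (hdet R u))))
    (fun R R' _ _ _ _ f u => by
      refine pMat_injective ?_
      obtain ⟨χ, rfl⟩ := (dPt k M).surjective u
      have e1 : ∀ (R : Type u) [CommRing R] [Algebra k R] (u : pt k R ⟶ dsch k M),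
          pMat (k := k) (Spec.mapMulEquiv (WithConv.toConv (GrothLib.HMG.ofMat (k := k) (C R u) (hdet R u)))) = C R u :=
        fun R _ _ u => (pMat_mapMulEquiv _).trans (GrothLib.HMG.mat_ofMat _ _)
      rw [← map_pMat, e1, e1]
      ext i j
      simp only [C, dPt_map, MulEquiv.symm_apply_apply, Matrix.map_apply, entry_sum, map_sum, AlgHom.map_smul_of_tower]
      rfl)
  have hC : ∀ (R : Type u) [CommRing R] [Algebra k R] (u : pt k R ⟶ dsch k M), pMat (u ≫ β) = C R u :=
    fun R _ _ u => by rw [hβ]; exact (pMat_mapMulEquiv _).trans (GrothLib.HMG.mat_ofMat _ _)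
  refine ⟨β, GrothLib.GrpSchField.isMonHom_of_mul _ (hom_ext_pts fun R _ _ p => ?_), fun R _ _ χ => ?_⟩
  · rw [← GrothLib.GrpSchField.lift_fst_snd_comp p]
    generalize p ≫ fst _ _ = a
    generalize p ≫ snd _ _ = b
    rw [← Category.assoc, ← Hom.mul_def, lift_map_assoc, ← Hom.mul_def]
    refine pMat_injective ?_
    rw [pMat_mul, hC, hC, hC, hmul]
  · rw [matOf, hC]
    simp [C]

omit [DecidableEq M] in
/-- A natural multiplicative transformation of characters is composition with a map of groups. -/
theorem exists_map_of_natural {M' : Type} [AddCommGroup M'] [DecidableEq M]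
    (Φ : ∀ (R : Type u) [CommRing R] [Algebra k R], (Multiplicative M →* R) → (Multiplicative M' →* R))
    (hΦ : ∀ (R R' : Type u) [CommRing R] [Algebra k R] [CommRing R'] [Algebra k R'] (f : R →ₐ[k] R')
      (χ : Multiplicative M →* R), (f : R →* R').comp (Φ R χ) = Φ R' ((f : R →* R').comp χ))
    (hm : ∀ (R : Type u) [CommRing R] [Algebra k R] (χ χ' : Multiplicative M →* R), Φ R (χ * χ') = Φ R χ * Φ R χ') :
    ∃ c : M' →+ M, ∀ (R : Type u) [CommRing R] [Algebra k R] (χ : Multiplicative M →* R),
      Φ R χ = χ.comp c.toMultiplicative := by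
  let χ' := Φ _ (univChar k M)
  have hev : ∀ (R : Type u) [CommRing R] [Algebra k R] (χ : Multiplicative M →* R) (x : M'),
      Φ R χ (Multiplicative.ofAdd x) = ∑ a, (χ' (Multiplicative.ofAdd x)).coeff (Multiplicative.ofAdd a) •
        χ (Multiplicative.ofAdd a) := fun R _ _ χ x => by
    conv_lhs => rw [← evalChar_univ (k := k) χ, ← hΦ]
    exact evalChar_apply χ _
  have key : ∀ x : M', ∃ c : M, ∀ a, (χ' (Multiplicative.ofAdd x)).coeff (Multiplicative.ofAdd a) =
      if c = a then 1 else 0 := by
    intro x
    let p := fun a : M => (χ' (Multiplicative.ofAdd x)).coeff (Multiplicative.ofAdd a)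
    let Δ : M →+ M × M := (AddMonoidHom.id M).prod (AddMonoidHom.id M)
    have hd : (monChar (k := k) (AddMonoidHom.inl M M)) * monChar (AddMonoidHom.inr M M) = monChar Δ :=
      monChar_inl_mul_inr
    have h := congrArg (fun ψ => ψ (Multiplicative.ofAdd x))
      (hm _ (monChar (k := k) (AddMonoidHom.inl M M)) (monChar (AddMonoidHom.inr M M)))
    simp only [hd, MonoidHom.mul_apply, hev, Finset.sum_mul_sum, smul_mul_smul_comm] at h
    have e : ∀ c d : M, monChar (k := k) (AddMonoidHom.inl M M) (Multiplicative.ofAdd c) *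
        monChar (AddMonoidHom.inr M M) (Multiplicative.ofAdd d) =
        monChar (AddMonoidHom.id (M × M)) (Multiplicative.ofAdd (c, d)) := monChar_mul_inl_inr
    simp only [e, ← Fintype.sum_prod_type'] at h
    have hpp : ∀ a b, p a * p b = if a = b then p a else 0 := by
      intro a b
      have h' := congrArg (fun q : MonoidAlgebra k (Multiplicative (M × M)) =>
        q.coeff (Multiplicative.ofAdd (a, b))) h
      rw [coeff_sum_monChar, coeff_sum_monChar] at h'
      simp only [AddMonoidHom.id_apply, Finset.sum_ite_eq', Finset.mem_univ, if_true] at h'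
      refine Eq.trans h'.symm ?_
      by_cases hab : a = b
      · subst hab
        rw [if_pos rfl, Finset.sum_eq_single a (fun c _ hc => if_neg (by simp [Δ, hc])) (by simp), if_pos (by simp [Δ])]
      · rw [if_neg hab, Finset.sum_eq_zero (fun c _ => if_neg (by simp [Δ]; rintro rfl; exact hab))]
    have hsum : ∑ a, p a = 1 := by
      have h1 := hm k 1 1
      rw [_root_.one_mul] at h1
      have h2 : Φ k 1 (Multiplicative.ofAdd x) = 1 := by
        have hu : IsUnit (Φ k 1 (Multiplicative.ofAdd x)) := (Group.isUnit _).map _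
        exact hu.mul_eq_left.1 (congr($h1 (Multiplicative.ofAdd x)).symm)
      simpa [hev] using h2
    obtain ⟨c, -, hc⟩ := Finset.exists_ne_zero_of_sum_ne_zero (hsum.trans_ne one_ne_zero)
    refine ⟨c, fun a => ?_⟩
    split_ifs with hca
    · subst hca
      have := hpp c c
      rw [if_pos rfl] at this
      exact mul_left_cancel₀ hc (this.trans (_root_.mul_one _).symm)
    · have := hpp c a
      rw [if_neg hca] at this
      exact (mul_eq_zero.1 this).resolve_left hc
  choose c hc using key
  have hval : ∀ x, χ' (Multiplicative.ofAdd x) = univChar k M (Multiplicative.ofAdd (c x)) := fun x => by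
    apply MonoidAlgebra.coeff_injective
    ext a
    obtain ⟨a, rfl⟩ := Multiplicative.ofAdd.surjective a
    rw [hc]
    simp [univChar, Finsupp.single_apply]
  have hinj : Function.Injective fun a : M => univChar k M (Multiplicative.ofAdd a) :=
    MonoidAlgebra.of_injective.comp Multiplicative.ofAdd.injective
  refine ⟨AddMonoidHom.mk' c fun x y => hinj ?_, fun R _ _ χ => MonoidHom.ext fun m => ?_⟩
  · change univChar k M _ = univChar k M (Multiplicative.ofAdd (c x) * Multiplicative.ofAdd (c y))
    rw [map_mul, ← hval, ← hval, ← hval, ← map_mul]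
    rfl
  · obtain ⟨x, rfl⟩ := Multiplicative.ofAdd.surjective m
    rw [hev]
    simp only [hc, ite_smul, one_smul, zero_smul, Finset.sum_ite_eq, Finset.mem_univ, if_true]
    rfl

end Weight

section BaseChange

variable (k : Type u) [Field k] (K : Type u) [Field K] [Algebra k K]

/-- The base change morphism. -/
abbrev bcm : Spec (CommRingCat.of K) ⟶ Spec (CommRingCat.of k) :=
  Spec.map (CommRingCat.ofHom (algebraMap k K))

variable {k K} {R : Type u} [CommRing R] [Algebra K R] [Algebra k R] [IsScalarTower k K R]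

variable (k K R) in
/-- An affine scheme over the extension, seen over the field. -/
def ptTower : (Over.map (bcm k K)).obj (pt K R) ≅ pt k R :=
  Over.isoMk (Iso.refl _) (by
    show 𝟙 _ ≫ Spec.map (CommRingCat.ofHom (algebraMap k R)) =
      Spec.map (CommRingCat.ofHom (algebraMap K R)) ≫ Spec.map (CommRingCat.ofHom (algebraMap k K))
    rw [Category.id_comp, ← Spec.map_comp, ← CommRingCat.ofHom_comp, ← IsScalarTower.algebraMap_eq k K R])

/-- Points of a base change. -/
def qPt (X : Over (Spec (CommRingCat.of k))) : (pt k R ⟶ X) ≃ (pt K R ⟶ Red.bc (bcm k K) X) :=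
  ((ptTower k K R).homFromEquiv (Z := X)).symm.trans (GrothLib.DiagGrp.bcPoint (bcm k K) X (pt K R))

theorem qPt_mul (G : Over (Spec (CommRingCat.of k))) [GrpObj G] (u v : pt k R ⟶ G) :
    qPt (K := K) G (u * v) = qPt G u * qPt G v := by
  show GrothLib.DiagGrp.bcPointMulEquiv (bcm k K) G _ ((ptTower k K R).hom ≫ (u * v)) = _
  rw [MonObj.comp_mul, map_mul]
  rfl

theorem qPt_comp {X Y : Over (Spec (CommRingCat.of k))} (u : pt k R ⟶ X) (f : X ⟶ Y) :
    qPt (K := K) X u ≫ (Over.pullback (bcm k K)).map f = qPt Y (u ≫ f) :=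
  ((congrArg (GrothLib.DiagGrp.bcPoint (bcm k K) Y (pt K R)) (Category.assoc _ _ _).symm).trans
    (GrothLib.DiagGrp.bcPoint_comp_right (bcm k K) _ f)).symm

theorem qPt_natural {R' : Type u} [CommRing R'] [Algebra K R'] [Algebra k R'] [IsScalarTower k K R']
    (f : R →ₐ[K] R') (X : Over (Spec (CommRingCat.of k))) (u : pt k R ⟶ X) :
    ptMap f ≫ qPt (K := K) X u = qPt X (ptMap (f.restrictScalars k) ≫ u) := by
  refine (GrothLib.DiagGrp.bcPoint_comp (bcm k K) _ _).symm.trans
    (congrArg (GrothLib.DiagGrp.bcPoint (bcm k K) X (pt K R')) ?_)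
  refine (Category.assoc _ _ _).symm.trans (Eq.trans ?_ (Category.assoc _ _ _))
  congr 1

end BaseChange

end GrothLib.Repr
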