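import Groth.Agent.Lib.Repr.Charts
import Groth.Agent.Lib.Repr.Coeff
import Mathlib.RingTheory.Noetherian.Basic

/-!
Module structures of groups of finite type over a field: local finiteness, and a finite stable
subspace detecting the kernel.
-/

universe u v

open CategoryTheory CategoryTheory.Limits MonoidalCategory CartesianMonoidalCategory MonObj GrpObj
open AlgebraicGeometry VecGrp
open scoped TensorProduct

noncomputable section

namespace GrothLib.Repr

variable {k : Type u} [Field k] {G : Over (Spec (CommRingCat.of k))} [GrpObj G]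
  {M : Type v} [AddCommGroup M] [Module k M] (m : GMod G M)

/-- The transform of a vector by a point. -/
abbrev act {R : Type u} [CommRing R] [Algebra k R] (u : pt k R ⟶ G) (x : M) : W k M R :=
  m.ρ R u ((1 : R) ⊗ₜ[k] x)

theorem Wmap_act {R R' : Type u} [CommRing R] [Algebra k R] [CommRing R'] [Algebra k R'] (f : R →ₐ[k] R')
    (u : pt k R ⟶ G) (x : M) : Wmap f (act m u x) = act m (ptMap f ≫ u) x := by
  rw [act, m.naturality, Wmap_tmul, map_one]

theorem act_one {R : Type u} [CommRing R] [Algebra k R] (x : M) :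
    act m (1 : pt k R ⟶ G) x = (1 : R) ⊗ₜ[k] x := by simp [act]

variable [LocallyOfFiniteType G.hom] [QuasiCompact G.hom]

/-- The transforms of a vector lie in one finite subspace. -/
theorem exists_orbit_bound (x : M) : ∃ N : Submodule k M, Module.Finite k N ∧
    ∀ (R : Type u) [CommRing R] [Algebra k R] (u : pt k R ⟶ G), InSub N (act m u x) := by
  obtain ⟨n, A, _, _, _, w, hw⟩ := exists_charts (k := k) G
  choose s hs using fun j => TensorProduct.exists_finset (act m (w j) x)
  let N := ⨆ j, Submodule.span k (Prod.snd '' (↑(s j) : Set (A j × M)))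
  have hf : ∀ j, Module.Finite k (Submodule.span k (Prod.snd '' (↑(s j) : Set (A j × M)))) := fun j =>
    Module.Finite.iff_fg.2 (Submodule.fg_span ((s j).finite_toSet.image _))
  refine ⟨N, inferInstance, fun R _ _ u φ hφ => eq_zero_of_local (k := k) fun p hp => ?_⟩
  obtain ⟨g, hg, j, σ, hσ⟩ := hw R u p hp
  refine ⟨g, hg, ?_⟩
  rw [map_cf, Wmap_act, hσ, ← Wmap_act, hs j, map_sum, map_sum]
  refine Finset.sum_eq_zero fun i hi => ?_
  rw [Wmap_tmul, cf_tmul,
    show φ i.2 = 0 from hφ (Submodule.mem_iSup_of_mem j (Submodule.subset_span ⟨i, hi, rfl⟩)), zero_smul]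

/-- The subspace is stable under all points. -/
def Stable (N : Submodule k M) : Prop :=
  ∀ (R : Type u) [CommRing R] [Algebra k R] (u : pt k R ⟶ G) (v : M), v ∈ N → InSub N (act m u v)

omit [LocallyOfFiniteType G.hom] [QuasiCompact G.hom] in
theorem exists_stable_core (N₀ : Submodule k M) [Module.Finite k N₀] :
    ∃ N : Submodule k M, Module.Finite k N ∧ Stable m N ∧ N ≤ N₀ ∧
      ∀ x, (∀ (R : Type u) [CommRing R] [Algebra k R] (u : pt k R ⟶ G), InSub N₀ (act m u x)) → x ∈ N := by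
  let N : Submodule k M :=
    { carrier := {v | ∀ (R : Type u) [CommRing R] [Algebra k R] (u : pt k R ⟶ G), InSub N₀ (act m u v)}
      add_mem' := fun {a b} ha hb R _ _ u φ hφ => by
        rw [act, TensorProduct.tmul_add, map_add, map_add, ha R u φ hφ, hb R u φ hφ, add_zero]
      zero_mem' := fun R _ _ u φ hφ => by simp [act]
      smul_mem' := fun c {a} ha R _ _ u φ hφ => by
        rw [act, TensorProduct.tmul_smul, ← IsScalarTower.algebraMap_smul R c, LinearEquiv.map_smul, LinearMap.map_smul,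
          ha R u φ hφ, smul_zero] }
  have hle : N ≤ N₀ := fun v hv => by
    have h := hv k (1 : pt k k ⟶ G)
    rw [act_one] at h
    exact inSub_one_tmul_iff.1 h
  refine ⟨N, FiniteDimensional.of_injective (Submodule.inclusion hle) (Submodule.inclusion_injective hle),
    fun R _ _ u v hv => inSub_of_contr fun ψ R' _ _ u' φ hφ => ?_, hle, fun x hx => hx⟩
  let f : M →ₗ[k] R' := ((cf φ).restrictScalars k).comp
    ((m.ρ R' u').toLinearMap.restrictScalars k ∘ₗ TensorProduct.mk k R' M 1)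
  show f (contr ψ (act m u v)) = 0
  let iR : R →ₐ[k] R ⊗[k] R' := Algebra.TensorProduct.includeLeft
  let iR' : R' →ₐ[k] R ⊗[k] R' := Algebra.TensorProduct.includeRight
  have e : ∀ y : W k M R, f.lTensor R y = cf φ (m.ρ _ (ptMap iR' ≫ u') (Wmap iR y)) := by
    intro y
    induction y using TensorProduct.induction_on with
    | zero => simp
    | tmul r w =>
      rw [LinearMap.lTensor_tmul, Wmap_tmul,
        show iR r ⊗ₜ[k] w = iR r • ((1 : R ⊗[k] R') ⊗ₜ[k] w) by
          rw [TensorProduct.smul_tmul', smul_eq_mul, _root_.mul_one],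
        LinearEquiv.map_smul, LinearMap.map_smul, smul_eq_mul]
      have h1 : iR' (f w) = cf φ (act m (ptMap iR' ≫ u') w) := by
        rw [← Wmap_act, ← map_cf]; rfl
      rw [show m.ρ _ (ptMap iR' ≫ u') ((1 : R ⊗[k] R') ⊗ₜ[k] w) = act m (ptMap iR' ≫ u') w from rfl, ← h1]
      simp [iR, iR']
    | add a b ha hb => simp only [map_add, ha, hb]
  have h2 : f.lTensor R (act m u v) = 0 := by
    rw [e, Wmap_act]
    have : m.ρ _ (ptMap iR' ≫ u') (act m (ptMap iR ≫ u) v) =
        act m ((ptMap iR' ≫ u') * (ptMap iR ≫ u)) v := by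
      simp only [act, map_mul, LinearEquiv.mul_apply]
    rw [this]
    exact hv _ _ φ hφ
  rw [apply_contr, h2, map_zero]

/-- Finitely many vectors lie in a finite stable subspace. -/
theorem exists_stable (s : Finset M) :
    ∃ N : Submodule k M, Module.Finite k N ∧ Stable m N ∧ (∀ x ∈ s, x ∈ N) := by
  choose N₀ hf hN₀ using exists_orbit_bound m
  have : Module.Finite k ↥(⨆ x ∈ s, N₀ x) := by
    rw [iSup_subtype']
    infer_instance
  obtain ⟨N, hN, hst, -, hmem⟩ := exists_stable_core m (⨆ x ∈ s, N₀ x)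
  exact ⟨N, hN, hst, fun x hx => hmem x fun R _ _ u φ hφ => hN₀ x R u φ
    fun y hy => hφ (Submodule.mem_iSup_of_mem x (Submodule.mem_iSup_of_mem hx hy))⟩

/-- Finitely many vectors detect, among the points, those fixing a whole family of modules. -/
theorem exists_finset_detect {I : Type v} {Ms : I → Type v} [∀ i, AddCommGroup (Ms i)]
    [∀ i, Module k (Ms i)] (ms : ∀ i, GMod G (Ms i)) :
    ∃ s : Finset (Σ i, Ms i), ∀ (R : Type u) [CommRing R] [Algebra k R] (u : pt k R ⟶ G),
      (∀ x ∈ s, act (ms x.1) u x.2 = (1 : R) ⊗ₜ[k] x.2) →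
        ∀ i (x : Ms i), act (ms i) u x = (1 : R) ⊗ₜ[k] x := by
  classical
  obtain ⟨n, A, _, _, _, w, hw⟩ := exists_charts (k := k) G
  let gen : ∀ j, (Σ i, Ms i) → Set (A j) := fun j x =>
    Set.range fun φ : Module.Dual k (Ms x.1) => cf φ (act (ms x.1) (w j) x.2 - (1 : A j) ⊗ₜ[k] x.2)
  have hfg : ∀ j, ∃ t : Finset (Σ i, Ms i),
      Ideal.span (⋃ x, gen j x) ≤ Ideal.span (⋃ x ∈ t, gen j x) := by
    intro j
    obtain ⟨T, hT, e⟩ := (Submodule.fg_span_iff_fg_span_finset_subset _).1
      (IsNoetherian.noetherian (Ideal.span (⋃ x, gen j x)))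
    choose c hc using fun (a : T) => Set.mem_iUnion.1 (hT a.2)
    refine ⟨Finset.univ.image c, e.le.trans (Submodule.span_le.2 fun a ha => Submodule.subset_span ?_)⟩
    exact Set.mem_iUnion₂.2 ⟨c ⟨a, ha⟩, Finset.mem_image_of_mem c (Finset.mem_univ _), hc ⟨a, ha⟩⟩
  choose t ht using hfg
  refine ⟨Finset.univ.biUnion t, fun R _ _ u hu i x => ext_cf fun φ => sub_eq_zero.1 ?_⟩
  rw [← map_sub]
  refine eq_zero_of_local (k := k) fun p hp => ?_
  obtain ⟨g, hg, j, σ, hσ⟩ := hw R u p hp
  refine ⟨g, hg, ?_⟩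
  have hmap : ∀ (x : Σ i, Ms i) (φ : Module.Dual k (Ms x.1)),
      σ (cf φ (act (ms x.1) (w j) x.2 - (1 : A j) ⊗ₜ[k] x.2)) =
        awayHom g (cf φ (act (ms x.1) u x.2 - (1 : R) ⊗ₜ[k] x.2)) := fun x φ => by
    rw [map_cf, map_cf, map_sub (Wmap σ), map_sub (Wmap (awayHom g)), Wmap_act, Wmap_act, Wmap_tmul,
      Wmap_tmul, map_one, map_one, hσ]
  rw [← hmap ⟨i, x⟩ φ]
  refine Submodule.span_induction (p := fun a _ => σ a = 0) ?_ (map_zero σ)
    (fun a b _ _ ha hb => by rw [map_add, ha, hb, add_zero])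
    (fun c a _ ha => by rw [smul_eq_mul, map_mul, ha, mul_zero])
    (ht j (Ideal.subset_span (Set.mem_iUnion.2 ⟨⟨i, x⟩, φ, rfl⟩)))
  intro a ha
  obtain ⟨y, hy, ψ, rfl⟩ := Set.mem_iUnion₂.1 ha
  rw [hmap y ψ, hu y (Finset.mem_biUnion.2 ⟨j, Finset.mem_univ _, hy⟩), sub_self, map_zero, map_zero]

end GrothLib.Repr
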