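import Groth.Agent.Lib.Repr.Spread

/-!
An action with a fixed rational point on an integral scheme is detected by representations.
-/

universe u

open CategoryTheory CategoryTheory.Limits MonoidalCategory CartesianMonoidalCategory MonObj GrpObj
open AlgebraicGeometry VecGrp
open scoped TensorProduct

noncomputable section

namespace GrothLib.Repr

variable {k : Type u} [Field k]

theorem isSeparated_of_isSeparated_hom {X : Over (Spec (CommRingCat.of k))} [IsSeparated X.hom] :
    X.left.IsSeparated :=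
  ⟨by rw [← CategoryTheory.Limits.terminal.comp_from X.hom]; infer_instance⟩

theorem exists_modules_trivial {G X : Over (Spec (CommRingCat.of k))} [GrpObj G] [IsSeparated X.hom]
    [IsIntegral X.left] [IsLocallyNoetherian X.left] (a : AlgGrp.Action G X)
    (x : 𝟙_ _ ⟶ X) (hx : a.IsFixedPt x) :
    ∃ (Ms : ULift.{u} ℕ → Type u) (_ : ∀ n, AddCommGroup (Ms n)) (_ : ∀ n, Module k (Ms n))
      (ms : ∀ n, GMod G (Ms n)),
      ∀ (R : Type u) [CommRing R] [Algebra k R] (u : pt k R ⟶ G),
        (∀ n (v : Ms n), act (ms n) u v = (1 : R) ⊗ₜ[k] v) ↔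
          ∀ (T' : Over (Spec (CommRingCat.of k))) (s : T' ⟶ pt k R) (y : T' ⟶ X),
            lift (s ≫ u) y ≫ a.act = y := by
  haveI := isSeparated_of_isSeparated_hom (k := k) (X := X)
  haveI : Subsingleton ↥(𝟙_ (Over (Spec (CommRingCat.of k)))).left :=
    inferInstanceAs (Subsingleton ↥(Spec (CommRingCat.of k)))
  obtain ⟨_, ⟨U, hU, rfl⟩, hxU, -⟩ :=
    X.left.isBasis_affineOpens.exists_subset_of_mem_open
      (Set.mem_univ (x.left (IsLocalRing.closedPoint k))) isOpen_univ
  obtain ⟨m, hm, Ms, i₁, i₂, ms, hms⟩ := exists_modules_fixesOver a x hx hU fun s => by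
    rw [Subsingleton.elim s (IsLocalRing.closedPoint k)]; exact hxU
  haveI : IsNoetherianRing Γ(X.left, U) := IsLocallyNoetherian.component_noetherian ⟨U, hU⟩
  refine ⟨Ms, i₁, i₂, ms, fun R _ _ u => ⟨fun h T' s y => ?_, (hms R u).2⟩⟩
  obtain ⟨D, _, _, j, hj, hne, -, hfix⟩ := fixesOver_nhd a hU m u ((hms R u).1 h)
  exact act_trivial_of_fixesOver a u j hne hfix s y

end GrothLib.Repr
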