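import Groth.Agent.Lib.Repr.Functions
import Groth.Agent.Lib.AntiAffine.Rigidity
import Groth.Prelude.Def_AlgGrp

/-!
Infinitesimal neighbourhoods of a fixed rational point of an action over a field: module
structures on their functions, and agreement with the trivial action around the point.
-/

universe u

open CategoryTheory CategoryTheory.Limits MonoidalCategory CartesianMonoidalCategory MonObj GrpObj
open AlgebraicGeometry VecGrp
open scoped TensorProduct

noncomputable section

namespace GrothLib.Repr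

variable {k : Type u} [Field k] {G X : Over (Spec (CommRingCat.of k))} [GrpObj G]

/-- A point acting on the product with the test scheme. -/
def actL (a : AlgGrp.Action G X) {R : Type u} [CommRing R] [Algebra k R] (u : pt k R ⟶ G) :
    (pt k R ⊗ X).left ⟶ X.left :=
  (lift (fst (pt k R) X ≫ u) (snd (pt k R) X) ≫ a.act).left

/-- Agreement of a point with the identity over a test point of `X`. -/
def FixesOver (a : AlgGrp.Action G X) {R : Type u} [CommRing R] [Algebra k R] (u : pt k R ⟶ G)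
    {T : Over (Spec (CommRingCat.of k))} (t : T ⟶ X) : Prop :=
  GrothLib.AntiAffine.Agree (actL a u) (snd (pt k R) X).left t

theorem fixesOver_iff (a : AlgGrp.Action G X) {R : Type u} [CommRing R] [Algebra k R] (u : pt k R ⟶ G)
    {T : Over (Spec (CommRingCat.of k))} (t : T ⟶ X) :
    FixesOver a u t ↔ lift (fst (pt k R) T ≫ u) (snd (pt k R) T ≫ t) ≫ a.act = snd (pt k R) T ≫ t := by
  have e₁ : (pt k R ◁ t) ≫ lift (fst (pt k R) X ≫ u) (snd (pt k R) X) ≫ a.act =
      lift (fst (pt k R) T ≫ u) (snd (pt k R) T ≫ t) ≫ a.act := by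
    rw [← Category.assoc, comp_lift, whiskerLeft_fst_assoc, whiskerLeft_snd]
  rw [← e₁, ← whiskerLeft_snd (pt k R) t]
  exact ⟨fun h => Over.OverMorphism.ext h, fun h => congrArg (fun t : pt k R ⊗ T ⟶ X => t.left) h⟩

variable (X) in
/-- The ideal powers of a point. -/
abbrev nbhd {U : X.left.Opens} (hU : IsAffineOpen U) (m : Ideal Γ(X.left, U)) (n : ℕ) : Type u :=
  Γ(X.left, U) ⧸ m ^ (n + 1)

/-- The infinitesimal neighbourhoods of a fixed rational point carry actions, whose modules of
functions detect the trivial action. -/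
theorem exists_modules_fixesOver (a : AlgGrp.Action G X) (x : 𝟙_ _ ⟶ X) (hx : a.IsFixedPt x)
    {U : X.left.Opens} (hU : IsAffineOpen U) (hxU : ∀ s, x.left s ∈ U) :
    letI := GrothLib.AntiAffine.algOf hU
    ∃ (m : Ideal Γ(X.left, U)) (_ : m.IsPrime) (Ms : ULift.{u} ℕ → Type u) (_ : ∀ n, AddCommGroup (Ms n))
      (_ : ∀ n, Module k (Ms n)) (ms : ∀ n, GMod G (Ms n)),
      ∀ (R : Type u) [CommRing R] [Algebra k R] (u : pt k R ⟶ G),
        ((∀ n (v : Ms n), act (ms n) u v = (1 : R) ⊗ₜ[k] v) →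
          ∀ n : ℕ, FixesOver a u
            (GrothLib.AntiAffine.ptMap (Ideal.Quotient.mkₐ k (m ^ (n + 1))) ≫ GrothLib.AntiAffine.wOf hU)) ∧
        ((∀ (T' : Over (Spec (CommRingCat.of k))) (s : T' ⟶ pt k R) (y : T' ⟶ X),
            lift (s ≫ u) y ≫ a.act = y) → ∀ n (v : Ms n), act (ms n) u v = (1 : R) ⊗ₜ[k] v) := by
  letI := GrothLib.AntiAffine.algOf hU
  let B : Type u := Γ(X.left, U)
  let w : pt k B ⟶ X := GrothLib.AntiAffine.wOf hU
  haveI : IsOpenImmersion w.left := inferInstanceAs (IsOpenImmersion hU.fromSpec)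
  haveI : Mono w := (Over.forget _).mono_of_mono_map (inferInstanceAs (Mono hU.fromSpec))
  have hfac : ∀ (R : Type u) [CommRing R] [Algebra k R] (z : pt k R ⟶ X), (∀ s, z.left s ∈ U) →
      ∃ χ : B →ₐ[k] R, z = ptMap χ ≫ w := by
    intro R _ _ z hz
    have hr : Set.range z.left ⊆ Set.range w.left := by
      rintro _ ⟨s, rfl⟩
      show z.left s ∈ Set.range hU.fromSpec
      rw [hU.range_fromSpec]
      exact hz s
    let l : pt k R ⟶ pt k B := Over.homMk (IsOpenImmersion.lift w.left z.left hr) (by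
      refine Eq.trans ?_ (Over.w z)
      rw [← Over.w w, IsOpenImmersion.lift_fac_assoc])
    obtain ⟨χ, hχ⟩ := exists_ptMap l
    exact ⟨χ, by rw [← hχ]; exact Over.OverMorphism.ext (IsOpenImmersion.lift_fac w.left z.left hr).symm⟩
  obtain ⟨ε, hε⟩ := hfac k (toUnit _ ≫ x) fun s => by
    rw [Over.comp_left, Scheme.Hom.comp_apply]
    exact hxU _
  let m : Ideal B := RingHom.ker ε.toRingHom
  haveI hmp : m.IsPrime := RingHom.ker_isPrime _
  let mk : ∀ n : ℕ, B →ₐ[k] B ⧸ m ^ (n + 1) := fun n => Ideal.Quotient.mkₐ k (m ^ (n + 1))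
  let ιn : ∀ n : ℕ, pt k (B ⧸ m ^ (n + 1)) ⟶ X := fun n => ptMap (mk n) ≫ w
  have hmono : ∀ n, Mono (ιn n) := fun n => by
    haveI : Mono (ptMap (mk n)).left := by
      rw [ptMap_left]
      haveI := IsClosedImmersion.spec_of_surjective (CommRingCat.ofHom (mk n).toRingHom)
        Ideal.Quotient.mk_surjective
      infer_instance
    haveI : Mono (ptMap (mk n)) := (Over.forget _).mono_of_mono_map ‹Mono (ptMap (mk n)).left›
    exact mono_comp _ _
  -- the key factorisation
  have key : ∀ (n : ℕ) (R : Type u) [CommRing R] [Algebra k R] (g : pt k R ⟶ G)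
      (y : pt k R ⟶ pt k (B ⧸ m ^ (n + 1))),
      ∃ y' : pt k R ⟶ pt k (B ⧸ m ^ (n + 1)), y' ≫ ιn n = lift g (y ≫ ιn n) ≫ a.act := by
    intro n R _ _ g y
    obtain ⟨φ, rfl⟩ := exists_ptMap y
    let φ' : B →ₐ[k] R := φ.comp (mk n)
    let I : Ideal R := m.map φ'.toRingHom
    have hI : I ^ (n + 1) = ⊥ := by
      rw [eq_bot_iff, ← Ideal.map_pow, Ideal.map_le_iff_le_comap]
      intro b hb
      show φ (mk n b) = 0
      rw [show mk n b = 0 from Ideal.Quotient.eq_zero_iff_mem.2 hb, map_zero]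
    let q : R →ₐ[k] R ⧸ I := Ideal.Quotient.mkₐ k I
    have hq : q.comp φ' = (Algebra.ofId k (R ⧸ I)).comp ε := AlgHom.ext fun b => by
      show Ideal.Quotient.mk I (φ' b) = algebraMap k (R ⧸ I) (ε b)
      rw [← Ideal.Quotient.mk_comp_algebraMap, RingHom.comp_apply, Ideal.Quotient.eq,
        ← φ'.commutes (ε b), ← map_sub]
      exact Ideal.mem_map_of_mem _ (show ε (b - algebraMap k B (ε b)) = 0 by
        rw [map_sub, AlgHom.commutes]
        exact sub_self _)
    let z : pt k R ⟶ X := lift g (ptMap φ ≫ ιn n) ≫ a.act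
    have hqz : ptMap q ≫ z = ptMap ((Algebra.ofId k (R ⧸ I)).comp ε) ≫ w := by
      have e : ptMap q ≫ ptMap φ ≫ ιn n = toUnit _ ≫ x := by
        rw [show ιn n = ptMap (mk n) ≫ w from rfl, ← Category.assoc, ← Category.assoc, ← ptMap_comp,
          ← ptMap_comp, AlgHom.comp_assoc, hq, ptMap_comp, Category.assoc, ← hε, ← Category.assoc]
        exact congrArg (· ≫ x) (Subsingleton.elim _ _)
      rw [show z = lift g (ptMap φ ≫ ιn n) ≫ a.act from rfl, ← Category.assoc, comp_lift, e, hx,
        ptMap_comp, Category.assoc, ← hε, ← Category.assoc]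
      exact congrArg (· ≫ x) (Subsingleton.elim _ _)
    have hsurj : Function.Surjective (ptMap q).left := by
      intro s
      have hs : I ≤ s.asIdeal := fun r hr => s.isPrime.mem_of_pow_mem (n + 1) (by
        have := Ideal.pow_mem_pow hr (n + 1)
        rw [hI] at this
        rw [(Ideal.mem_bot).1 this]
        exact s.asIdeal.zero_mem)
      have hs' : s ∈ PrimeSpectrum.zeroLocus (I : Set R) := hs
      rw [show (I : Set R) = RingHom.ker (Ideal.Quotient.mk I) by rw [Ideal.mk_ker],
        ← range_comap_of_surjective (R := R) (S := R ⧸ I) _ Ideal.Quotient.mk_surjective] at hs'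
      exact hs'
    obtain ⟨χ, hχ⟩ := hfac R z fun s => by
      obtain ⟨s', rfl⟩ := hsurj s
      rw [← Scheme.Hom.comp_apply, ← Over.comp_left, hqz, Over.comp_left, Scheme.Hom.comp_apply]
      exact hU.range_fromSpec.subset ⟨_, rfl⟩
    have hχq : q.comp χ = (Algebra.ofId k (R ⧸ I)).comp ε := by
      rw [hχ, ← Category.assoc, ← ptMap_comp, cancel_mono] at hqz
      have h := congrArg (·.left) hqz
      simp only [ptMap_left] at h
      refine AlgHom.ext fun b => ?_
      exact congr($(Spec.map_injective h).hom b)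
    have hmI : m.map χ.toRingHom ≤ I := Ideal.map_le_iff_le_comap.2 fun b hb => by
      show χ b ∈ I
      refine Ideal.Quotient.eq_zero_iff_mem.1 ?_
      show (q.comp χ) b = 0
      rw [hχq, AlgHom.comp_apply, show ε b = 0 from hb, map_zero]
    have hker : ∀ b ∈ m ^ (n + 1), χ b = 0 := fun b hb => by
      have h := (Ideal.pow_right_mono hmI (n + 1)) (by
        rw [← Ideal.map_pow]; exact Ideal.mem_map_of_mem χ.toRingHom hb)
      rw [hI] at h
      exact h
    refine ⟨ptMap (Ideal.Quotient.liftₐ _ χ hker), ?_⟩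
    rw [show ιn n = ptMap (mk n) ≫ w from rfl, ← Category.assoc, ← ptMap_comp]
    exact (congrArg (fun f => ptMap f ≫ w) (AlgHom.ext fun b => rfl)).trans hχ.symm
  have hex : ∀ n : ℕ, ∃ an : AlgGrp.Action G (pt k (B ⧸ m ^ (n + 1))),
      an.act ≫ ιn n = (G ◁ ιn n) ≫ a.act := by
    intro n
    haveI := hmono n
    choose F hF using fun (R : Type u) (_ : CommRing R) (_ : Algebra k R)
      (p : pt k R ⟶ G ⊗ pt k (B ⧸ m ^ (n + 1))) => key n R (p ≫ fst _ _) (p ≫ snd _ _)
    have hF' : ∀ (R : Type u) [CommRing R] [Algebra k R] (p : pt k R ⟶ G ⊗ pt k (B ⧸ m ^ (n + 1))),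
        F R _ _ p ≫ ιn n = p ≫ (G ◁ ιn n) ≫ a.act := fun R _ _ p => by
      rw [hF, ← Category.assoc p]
      congr 1
      ext1 <;> simp
    obtain ⟨f, hf⟩ := exists_hom_of_natural (fun R _ _ p => F R _ _ p) fun R R' _ _ _ _ φ p => by
      rw [← cancel_mono (ιn n), Category.assoc, hF', hF', Category.assoc]
    have hfι : f ≫ ιn n = (G ◁ ιn n) ≫ a.act := hom_ext_pts fun R _ _ p => by
      rw [← Category.assoc, hf, hF']
    refine ⟨{ act := f, one_act := ?_, mul_act := ?_ }, hfι⟩
    · rw [← cancel_mono (ιn n), Category.assoc, hfι, ← whisker_exchange_assoc, a.one_act,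
        leftUnitor_naturality]
    · rw [← cancel_mono (ιn n), Category.assoc, hfι, ← whisker_exchange_assoc, a.mul_act, Category.assoc,
        Category.assoc, hfι, associator_naturality_right_assoc, ← MonoidalCategory.whiskerLeft_comp_assoc,
        ← hfι, MonoidalCategory.whiskerLeft_comp_assoc, hfι]
  choose an han using hex
  haveI : ∀ n : ℕ, IsAffine (pt k (B ⧸ m ^ (n + 1))).left := fun n =>
    inferInstanceAs (IsAffine (Spec (CommRingCat.of (B ⧸ m ^ (n + 1)))))
  haveI : ∀ n : ℕ, IsAffineHom (pt k (B ⧸ m ^ (n + 1))).hom := fun n => isAffineHom_of_isAffine _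
  refine ⟨m, hmp, fun n => Fn (pt k (B ⧸ m ^ (n.down + 1))), inferInstance, inferInstance,
    fun n => fnGMod (an n.down), fun R _ _ u => ⟨fun h n => ?_, fun htriv n v => ?_⟩⟩
  swap
  · haveI := hmono n.down
    refine (act_fnGMod_eq_iff (an n.down) u v).2 ?_
    congr 2
    rw [← cancel_mono (ιn n.down), Category.assoc, han, lift_whiskerLeft_assoc]
    have h1 := htriv _ (snd (pt k (B ⧸ m ^ (n.down + 1))) (pt k R))
      (fst (pt k (B ⧸ m ^ (n.down + 1))) (pt k R) ≫ ιn n.down)
    conv_lhs => rw [← h1]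
    rw [lift_act_mul, ← MonObj.comp_mul, inv_mul_cancel, MonObj.comp_one, lift_one_act]
  show FixesOver a u (ιn n)
  rw [fixesOver_iff]
  have h1 := act_trivial_of_affine (an n) u (h ⟨n⟩) (fst (pt k R) (pt k (B ⧸ m ^ (n + 1))))
    (snd (pt k R) (pt k (B ⧸ m ^ (n + 1))))
  have h2 := congrArg (· ≫ ιn n) h1
  simp only [Category.assoc, han, lift_whiskerLeft_assoc] at h2
  exact h2

end GrothLib.Repr
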