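import Groth.Agent.Lib.Repr.Quotient
import Groth.Agent.Lib.DiagGrp.Points
import Groth.Prelude.Def_FrameBundle

/-!
`GL_N` of the coordinate Hopf algebra over a field maps to the general linear group scheme of the frame
bundles with trivial kernel.
-/

universe u

open CategoryTheory CategoryTheory.Limits MonoidalCategory CartesianMonoidalCategory MonObj GrpObj
open AlgebraicGeometry VecGrp WithConv

noncomputable section

namespace GrothLib.Repr

attribute [local instance 50] GrothLib.DiagGrp.algZ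

variable {k : Type u} [Field k]

/-- A homomorphism `GL_N ⟶ FrB.GLn` with trivial kernel. -/
theorem exists_hom_frB (N : ℕ) :
    ∃ φ : GLsch k N ⟶ FrB.GLn N (Spec (CommRingCat.of k)), IsMonHom φ ∧
      ∀ (R : Type u) [CommRing R] [Algebra k R] (p : pt k R ⟶ GLsch k N), p ≫ φ = 1 → p = 1 := by
  let t := IsTerminal.from specULiftZIsTerminal (Spec (CommRingCat.of k))
  let Pz := fun (R : Type u) [CommRing R] =>
    (Spec (CommRingCat.of R)).asOver (Spec (CommRingCat.of (ULift.{u} ℤ)))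
  let j := fun (R : Type u) [CommRing R] [Algebra k R] =>
    (Over.isoMk (Iso.refl _) (specULiftZIsTerminal.hom_ext _ _) : (Over.map t).obj (pt k R) ≅ Pz R)
  let F := fun (R : Type u) [CommRing R] [Algebra k R] (p : pt k R ⟶ GLsch k N) =>
    GrothLib.DiagGrp.bcPointMulEquiv t (FrB.GLZ N) (pt k R)
      ((j R).hom ≫ Spec.mapMulEquiv (toConv (GrothLib.HMG.ofMat (k := ULift.{u} ℤ)
        (GrothLib.HMG.mat ((Spec.mapMulEquiv (R := k)).symm p).ofConv)
        (GrothLib.HMG.isUnit_det_mat ((Spec.mapMulEquiv (R := k)).symm p).ofConv))))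
  have hFm : ∀ (R : Type u) [CommRing R] [Algebra k R] (p q : pt k R ⟶ GLsch k N),
      F R (p * q) = F R p * F R q := by
    intro R _ _ p q
    simp only [F]
    rw [← map_mul (GrothLib.DiagGrp.bcPointMulEquiv t (FrB.GLZ N) (pt k R)), ← MonObj.comp_mul]
    refine congrArg (fun z => GrothLib.DiagGrp.bcPointMulEquiv t (FrB.GLZ N) (pt k R) ((j R).hom ≫ z)) ?_
    rw [← map_mul]
    refine congrArg _ (WithConv.ofConv_injective (GrothLib.HMG.ext_mat ?_))
    rw [ofConv_toConv, GrothLib.HMG.mat_ofMat]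
    refine (congrArg (fun z => GrothLib.HMG.mat (ofConv z)) (map_mul (Spec.mapMulEquiv (R := k)).symm p q)).trans ?_
    refine ((congrArg GrothLib.HMG.mat (AlgHom.ext fun x => AlgHom.convMul_apply _ _ x)).trans
      (GrothLib.HMG.mat_pmul _ _)).trans ?_
    refine Eq.trans ?_ (congrArg GrothLib.HMG.mat (show GrothLib.HMG.pmul _ _ = WithConv.ofConv (_ * _) from
      AlgHom.ext fun x => (AlgHom.convMul_apply _ _ x).symm))
    refine Eq.trans ?_ (GrothLib.HMG.mat_pmul _ _).symm
    rw [ofConv_toConv, ofConv_toConv, GrothLib.HMG.mat_ofMat, GrothLib.HMG.mat_ofMat]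
    rfl
  have hFn : ∀ (R R' : Type u) [CommRing R] [Algebra k R] [CommRing R'] [Algebra k R'] (f : R →ₐ[k] R')
      (p : pt k R ⟶ GLsch k N), ptMap f ≫ F R p = F R' (ptMap f ≫ p) := by
    intro R R' _ _ _ _ f p
    simp only [F]
    change ptMap f ≫ GrothLib.DiagGrp.bcPoint t (FrB.GLZ N) (pt k R) _ =
      GrothLib.DiagGrp.bcPoint t (FrB.GLZ N) (pt k R') _
    rw [← GrothLib.DiagGrp.bcPoint_comp]
    congr 1
    refine Over.OverMorphism.ext ?_
    show Spec.map (CommRingCat.ofHom f.toRingHom) ≫ 𝟙 _ ≫ Spec.map _ = 𝟙 _ ≫ Spec.map _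
    rw [Category.id_comp, Category.id_comp, LieS.specMap_comp]
    congr 2
    obtain ⟨w, rfl⟩ := (Spec.mapMulEquiv (R := k)).surjective p
    rw [MulEquiv.symm_apply_apply, mapMulEquiv_comp, MulEquiv.symm_apply_apply]
    simp only [ofConv_toConv]
    let fz : R →ₐ[ULift.{u} ℤ] R' := { f.toRingHom with
      commutes' := fun r => congr($(Subsingleton.elim (f.toRingHom.comp ((algebraMap (ULift.{u} ℤ) R).comp ULift.ringEquiv.symm.toRingHom))
        ((algebraMap (ULift.{u} ℤ) R').comp ULift.ringEquiv.symm.toRingHom)) (ULift.ringEquiv r)) }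
    have e : fz.comp (GrothLib.HMG.ofMat (k := ULift.{u} ℤ) (GrothLib.HMG.mat w.ofConv) (GrothLib.HMG.isUnit_det_mat w.ofConv)) =
        GrothLib.HMG.ofMat (k := ULift.{u} ℤ) (GrothLib.HMG.mat (f.comp w.ofConv)) (GrothLib.HMG.isUnit_det_mat _) := by
      refine GrothLib.HMG.ext_mat ?_
      rw [GrothLib.HMG.mat_comp, GrothLib.HMG.mat_ofMat, GrothLib.HMG.mat_ofMat]
      rfl
    exact congrArg AlgHom.toRingHom e
  obtain ⟨φ, hφ⟩ := exists_hom_of_natural F hFn
  refine ⟨φ, GrothLib.GrpSchField.isMonHom_of_mul _ (hom_ext_pts fun R _ _ p => ?_), fun R _ _ p hp => ?_⟩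
  · rw [← GrothLib.GrpSchField.lift_fst_snd_comp p]
    generalize p ≫ fst (GLsch k N) (GLsch k N) = a
    generalize p ≫ snd (GLsch k N) (GLsch k N) = b
    rw [← Category.assoc, ← Hom.mul_def, hφ, lift_map_assoc, ← Hom.mul_def, hφ, hφ]
    exact hFm R a b
  · rw [hφ] at hp
    have h1 := (GrothLib.DiagGrp.bcPointMulEquiv t (FrB.GLZ N) (pt k R)).injective
      (hp.trans (map_one _).symm)
    rw [← MonObj.comp_one (j R).hom, cancel_epi, ← map_one (Spec.mapMulEquiv (R := ULift.{u} ℤ))] at h1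
    have h2 := congrArg GrothLib.HMG.mat (congrArg ofConv (Spec.mapMulEquiv.injective h1))
    rw [ofConv_toConv, GrothLib.HMG.mat_ofMat] at h2
    refine ((Spec.mapMulEquiv (R := k)).apply_symm_apply p).symm.trans
      ((congrArg _ (WithConv.ofConv_injective (GrothLib.HMG.ext_mat ?_))).trans (map_one (Spec.mapMulEquiv (R := k) (T := R))))
    exact h2.trans (GrothLib.HMG.mat_pone.trans GrothLib.HMG.mat_pone.symm)

end GrothLib.Repr
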