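import Groth.Agent.Lib.Repr.GmPts
import Groth.Agent.Lib.Repr.AffineSpaceRep

/-!
Weight projections of the restriction of a representation to a multiplicative subgroup.
-/

universe u

open CategoryTheory MonoidalCategory CartesianMonoidalCategory MonObj GrpObj AlgebraicGeometry VecGrp

noncomputable section

namespace GrothLib.Repr

variable {k : Type u} [Field k] {G : Over (Spec (CommRingCat.of k))} [GrpObj G] {N : ℕ}
  (ρ : G ⟶ GLsch k N) [IsMonHom ρ] (i : Red.Gm (Spec (CommRingCat.of k)) ⟶ G) [IsMonHom i]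
  {R : Type u} [CommRing R] [Algebra k R]

/-- The matrix of a unit. -/
def gmMat (w : Rˣ) : Matrix (Fin N) (Fin N) R := matOf ρ (gmPt k w ≫ i)

theorem gmMat_mul (w v : Rˣ) : gmMat ρ i (w * v) = gmMat ρ i w * gmMat ρ i v := by
  rw [gmMat, gmMat, gmMat, map_mul, MonObj.mul_comp, matOf_mul]

theorem gmMat_one : gmMat ρ i (1 : Rˣ) = 1 := by
  rw [gmMat, map_one, MonObj.one_comp, matOf_one]

omit [IsMonHom ρ] [IsMonHom i] [GrpObj G] in
theorem map_gmMat {R' : Type u} [CommRing R'] [Algebra k R'] (f : R →ₐ[k] R') (w : Rˣ) :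
    (gmMat ρ i w).map f = gmMat ρ i (Units.map (f : R →* R') w) := by
  rw [gmMat, map_matOf, ← Category.assoc, gmPt_map]
  rfl

/-- The projection to a weight space. -/
def weightMat (n : ℤ) : Matrix (Fin N) (Fin N) k := (gmMat ρ i (unitT k)).map (lcoeff n)

/-- The weight projection over an algebra. -/
def weightMatR (R : Type u) [CommRing R] [Algebra k R] (n : ℤ) : Matrix (Fin N) (Fin N) R :=
  (weightMat ρ i n).map (algebraMap k R)

/-- `w · T` as a unit. -/
def scaleT (w : Rˣ) : (LaurentPolynomial R)ˣ :=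
  Units.map (LaurentPolynomial.C : R →+* LaurentPolynomial R).toMonoidHom w *
    (LaurentPolynomial.isUnit_T (R := R) 1).unit

omit [IsMonHom ρ] [IsMonHom i] [GrpObj G] in
theorem lcoeff_gmMat (w : Rˣ) (n : ℤ) :
    (gmMat ρ i (scaleT w)).map (lcoeff n) = ((w ^ n : Rˣ) : R) • weightMatR ρ i R n := by
  rw [← evalUnit_unitT (k := k) (scaleT w), ← map_gmMat]
  ext a b
  change lcoeff n (evalUnit (scaleT w) _) = _
  rw [lcoeff_evalUnit w (scaleT w) rfl, Algebra.smul_def, mul_comm]
  rfl

/-- The constant Laurent polynomial, as an algebra map. -/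
def constHom (k R : Type u) [Field k] [CommRing R] [Algebra k R] : R →ₐ[k] LaurentPolynomial R :=
  { (LaurentPolynomial.C : R →+* LaurentPolynomial R) with commutes' := fun _ => rfl }

theorem lcoeff_mul_left (Y : Matrix (Fin N) (Fin N) R) (X : Matrix (Fin N) (Fin N) (LaurentPolynomial R))
    (n : ℤ) : (Y.map (constHom k R) * X).map (lcoeff n) = Y * X.map (lcoeff n) := by
  ext a b
  simp only [Matrix.map_apply, Matrix.mul_apply, map_sum]
  exact Finset.sum_congr rfl fun c _ => lcoeff_C_mul n _ _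

theorem lcoeff_mul_right (Y : Matrix (Fin N) (Fin N) R) (X : Matrix (Fin N) (Fin N) (LaurentPolynomial R))
    (n : ℤ) : (X * Y.map (constHom k R)).map (lcoeff n) = X.map (lcoeff n) * Y := by
  ext a b
  simp only [Matrix.map_apply, Matrix.mul_apply, map_sum]
  refine Finset.sum_congr rfl fun c _ => ?_
  rw [_root_.mul_comm]
  exact (lcoeff_C_mul n _ _).trans (_root_.mul_comm _ _)

theorem scaleT_one_mul (w : Rˣ) :
    scaleT w = Units.map (constHom k R : R →* LaurentPolynomial R) w * scaleT 1 := by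
  rw [scaleT, scaleT, map_one, _root_.one_mul]
  rfl

theorem gmMat_mul_weight (w : Rˣ) (n : ℤ) :
    gmMat ρ i w * weightMatR ρ i R n = ((w ^ n : Rˣ) : R) • weightMatR ρ i R n := by
  rw [← lcoeff_gmMat, scaleT_one_mul (k := k) w, gmMat_mul, ← map_gmMat, lcoeff_mul_left, lcoeff_gmMat]
  simp

theorem weightMatR_map {R' : Type u} [CommRing R'] [Algebra k R'] (f : R →ₐ[k] R') (n : ℤ) :
    (weightMatR ρ i R n).map f = weightMatR ρ i R' n := by
  ext a b
  exact f.commutes _

theorem weightMat_mul_self (n : ℤ) : weightMat ρ i n * weightMat ρ i n = weightMat ρ i n := by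
  have h := congrArg (fun X => X.map (lcoeff n)) (gmMat_mul_weight ρ i (unitT k) n)
  rw [show weightMatR ρ i (LaurentPolynomial k) n = (weightMat ρ i n).map (constHom k k) from rfl,
    lcoeff_mul_right] at h
  refine h.trans (Matrix.ext fun a b => ?_)
  change lcoeff n (((unitT k ^ n : (LaurentPolynomial k)ˣ) : LaurentPolynomial k) * LaurentPolynomial.C _) = _
  rw [_root_.mul_comm, lcoeff_C_mul]
  have e := lcoeff_evalUnit (k := k) (1 : kˣ) (scaleT 1) rfl n (LaurentPolynomial.C 1 * LaurentPolynomial.T n)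
  rw [evalUnit_C_mul_T, one_smul, one_zpow, Units.val_one, smul_eq_mul, _root_.mul_one,
    show scaleT (1 : kˣ) = unitT k by rw [scaleT, map_one, _root_.one_mul]; rfl] at e
  rw [e, lcoeff_C_mul]
  show _ * (1 * (AddMonoidAlgebra.single n (1:k)).coeff n) = _
  simp

/-- The weight projections commute with every point commuting with the subgroup. -/
theorem weight_comm (hcent : ∀ (T : Over (Spec (CommRingCat.of k))) (t : T ⟶ Red.Gm (Spec (CommRingCat.of k)))
    (g : T ⟶ G), (t ≫ i) * g = g * (t ≫ i)) (u : pt k R ⟶ G) (n : ℤ) :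
    weightMatR ρ i R n * matOf ρ u = matOf ρ u * weightMatR ρ i R n := by
  have h := congrArg (matOf ρ) (hcent _ (gmPt k (scaleT (1 : Rˣ))) (ptMap (constHom k R) ≫ u))
  rw [matOf_mul, matOf_mul, ← map_matOf] at h
  have h' := congrArg (fun X => X.map (lcoeff n)) h
  have e : (gmMat ρ i (scaleT (1 : Rˣ))).map (lcoeff n) = weightMatR ρ i R n := by
    rw [lcoeff_gmMat]; simp
  change (gmMat ρ i (scaleT (1 : Rˣ)) * _).map (lcoeff n) = (_ * gmMat ρ i (scaleT (1 : Rˣ))).map (lcoeff n) at h'
  rwa [lcoeff_mul_left, lcoeff_mul_right, e] at h'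

theorem unitT_eq_one_of_weight (h : ∀ n : ℤ, n ≠ 0 → weightMat ρ i n = 0) :
    gmMat ρ i (unitT k) = 1 := by
  have h0 : gmMat ρ i (unitT k) = (weightMat ρ i 0).map (constHom k k) := by
    ext a b n
    change lcoeff n _ = lcoeff n (LaurentPolynomial.C (lcoeff 0 _))
    rw [lcoeff_C]
    split_ifs with hn
    · rw [hn]
    · exact congr($(h n hn) a b)
  have h1 := map_gmMat ρ i (evalUnit (k := k) (1 : kˣ)) (unitT k)
  rw [evalUnit_unitT, gmMat_one, h0] at h1
  have hA : weightMat ρ i 0 = 1 := by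
    refine Eq.trans ?_ h1
    ext a b
    change weightMat ρ i 0 a b = evalUnit (1 : kˣ) (LaurentPolynomial.C (weightMat ρ i 0 a b))
    rw [← _root_.mul_one (LaurentPolynomial.C (weightMat ρ i 0 a b)), ← LaurentPolynomial.T_zero, evalUnit_C_mul_T]
    simp
  rw [h0, hA]
  exact Matrix.map_one _ (map_zero _) (map_one _)

end GrothLib.Repr
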