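import Groth.Agent.Lib.Repr.Formal
import Mathlib.RingTheory.Filtration
import Mathlib.AlgebraicGeometry.Properties

/-!
Spreading the agreement with the trivial action out of the neighbourhoods of a fixed point.
-/

universe u

open CategoryTheory CategoryTheory.Limits MonoidalCategory CartesianMonoidalCategory MonObj GrpObj
open AlgebraicGeometry VecGrp
open scoped TensorProduct

noncomputable section

namespace GrothLib.Repr

variable {k : Type u} [Field k]

/-- An element in all powers of a prime of a Noetherian ring is killed off the prime. -/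
theorem exists_mul_eq_zero_of_mem_pow {B : Type u} [CommRing B] [IsNoetherianRing B] (p : Ideal B) [p.IsPrime]
    {y : B} (hy : ∀ n : ℕ, y ∈ p ^ (n + 1)) : ∃ s ∉ p, s * y = 0 := by
  let L := Localization.AtPrime p
  have h0 : algebraMap B L y ∈ (⨅ n : ℕ, IsLocalRing.maximalIdeal L ^ n) := by
    refine Ideal.mem_iInf.2 fun n => ?_
    rw [← Localization.AtPrime.map_eq_maximalIdeal, ← Ideal.map_pow]
    exact Ideal.mem_map_of_mem _ (Ideal.pow_le_pow_right (Nat.le_succ n) (hy n))
  rw [Ideal.iInf_pow_eq_bot_of_isLocalRing _ (Ideal.IsPrime.ne_top') , Ideal.mem_bot] at h0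
  obtain ⟨⟨s, hs⟩, e⟩ := (IsLocalization.map_eq_zero_iff p.primeCompl L y).1 h0
  exact ⟨s, hs, e⟩

variable {X : Over (Spec (CommRingCat.of k))}

/-- Two maps out of a product agreeing over an affine open cover of the second factor agree. -/
theorem eq_of_agree_opens {P : Over (Spec (CommRingCat.of k))} {Z : Scheme.{u}}
    {a b : (P ⊗ X).left ⟶ Z}
    (h : ∀ (V : X.left.Opens) (hV : IsAffineOpen V),
      letI := GrothLib.AntiAffine.algOf hV
      GrothLib.AntiAffine.Agree a b (GrothLib.AntiAffine.wOf hV)) : a = b := by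
  refine Scheme.Cover.hom_ext
    (Precoverage.ZeroHypercover.pullback₁ (snd P X).left X.left.affineCover) _ _ fun (i : X.left.affineCover.I₀) => ?_
  show pullback.fst (snd P X).left (X.left.affineCover.f i) ≫ a =
    pullback.fst (snd P X).left (X.left.affineCover.f i) ≫ b
  let V := (X.left.affineCover.f i).opensRange
  have hV : IsAffineOpen V := isAffineOpen_opensRange _
  letI := GrothLib.AntiAffine.algOf hV
  let w := GrothLib.AntiAffine.wOf hV
  haveI : IsOpenImmersion w.left := inferInstanceAs (IsOpenImmersion hV.fromSpec)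
  let W : Over (Spec (CommRingCat.of k)) :=
    Over.mk (pullback.fst (snd P X).left (X.left.affineCover.f i) ≫ (P ⊗ X).hom)
  let q : W ⟶ P ⊗ X := Over.homMk (pullback.fst (snd P X).left (X.left.affineCover.f i)) rfl
  have hr : Set.range (q ≫ snd P X).left ⊆ Set.range w.left := by
    rintro _ ⟨z, rfl⟩
    show (q ≫ snd P X).left z ∈ Set.range hV.fromSpec
    rw [hV.range_fromSpec, Over.comp_left]
    show (pullback.fst (snd P X).left (X.left.affineCover.f i) ≫ (snd P X).left) z ∈ _
    rw [pullback.condition]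
    exact ⟨_, rfl⟩
  let l : W ⟶ GrothLib.AntiAffine.pt (k := k) Γ(X.left, V) :=
    Over.homMk (IsOpenImmersion.lift w.left (q ≫ snd P X).left hr) (by
      refine Eq.trans ?_ (Over.w (q ≫ snd P X))
      rw [← Over.w w, IsOpenImmersion.lift_fac_assoc])
  have hl : l ≫ w = q ≫ snd P X := Over.OverMorphism.ext (IsOpenImmersion.lift_fac _ _ hr)
  have hq : lift (q ≫ fst P X) l ≫ (P ◁ w) = q := by
    rw [lift_whiskerLeft, hl, ← comp_lift, lift_fst_snd, Category.comp_id]
  show q.left ≫ a = q.left ≫ b
  rw [← hq, Over.comp_left, Category.assoc, Category.assoc, h V hV]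

variable {G : Over (Spec (CommRingCat.of k))} [GrpObj G]

/-- Fixing all infinitesimal neighbourhoods of a point, a point of the group fixes a neighbourhood. -/
theorem fixesOver_nhd (a : AlgGrp.Action G X) {U : X.left.Opens} (hU : IsAffineOpen U) [X.left.IsSeparated]
    [IsNoetherianRing Γ(X.left, U)] (m : Ideal Γ(X.left, U)) [m.IsPrime]
    {R : Type u} [CommRing R] [Algebra k R] (u : pt k R ⟶ G)
    (h : letI := GrothLib.AntiAffine.algOf hU
      ∀ n : ℕ, FixesOver a u
        (GrothLib.AntiAffine.ptMap (Ideal.Quotient.mkₐ k (m ^ (n + 1))) ≫ GrothLib.AntiAffine.wOf hU)) :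
    ∃ (D : Type u) (_ : CommRing D) (_ : Algebra k D) (j : pt k D ⟶ X), IsOpenImmersion j.left ∧
      (Set.range j.left).Nonempty ∧ hU.fromSpec ⟨m, inferInstance⟩ ∈ Set.range j.left ∧ FixesOver a u j := by
  letI := GrothLib.AntiAffine.algOf hU
  haveI : IsAffineHom (pt k R).hom := inferInstanceAs (IsAffineHom (Spec.map _))
  obtain ⟨s, hs, hD⟩ := GrothLib.AntiAffine.agree_nhd
    (fun n : ULift.{u} ℕ => Γ(X.left, U) ⧸ m ^ (n.down + 1)) (fun n => Ideal.Quotient.mkₐ k (m ^ (n.down + 1)))
    (GrothLib.AntiAffine.wOf hU) m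
    (fun y hy => exists_mul_eq_zero_of_mem_pow m fun n => Ideal.Quotient.eq_zero_iff_mem.1 (hy ⟨n⟩))
    (fun n => h n.down)
  let D := Localization.Away s
  let ψ : Γ(X.left, U) →ₐ[k] D := awayHom s
  let j : pt k D ⟶ X := GrothLib.AntiAffine.ptMap ψ ≫ GrothLib.AntiAffine.wOf hU
  haveI : IsOpenImmersion (Spec.map (CommRingCat.ofHom (algebraMap Γ(X.left, U) D))) :=
    IsOpenImmersion.of_isLocalization s
  have hmem : hU.fromSpec ⟨m, inferInstance⟩ ∈ Set.range j.left := by
    obtain ⟨z, hz⟩ : (⟨m, inferInstance⟩ : PrimeSpectrum Γ(X.left, U)) ∈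
        Set.range (PrimeSpectrum.comap (algebraMap Γ(X.left, U) D)) := by
      rw [PrimeSpectrum.localization_away_comap_range D s]
      exact hs
    exact ⟨z, congrArg hU.fromSpec hz⟩
  refine ⟨D, inferInstance, inferInstance, j,
    inferInstanceAs (IsOpenImmersion (Spec.map (CommRingCat.ofHom (algebraMap Γ(X.left, U) D)) ≫ hU.fromSpec)),
    ⟨_, hmem⟩, hmem, hD D ψ (IsLocalization.Away.algebraMap_isUnit s)⟩

/-- On an integral scheme, a point fixing a nonempty open fixes everything. -/
theorem act_trivial_of_fixesOver [IsIntegral X.left] [X.left.IsSeparated] (a : AlgGrp.Action G X)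
    {R : Type u} [CommRing R] [Algebra k R] (u : pt k R ⟶ G) {T : Over (Spec (CommRingCat.of k))}
    (t : T ⟶ X) [IsOpenImmersion t.left] (ht : (Set.range t.left).Nonempty) (h : FixesOver a u t)
    {T' : Over (Spec (CommRingCat.of k))} (s : T' ⟶ pt k R) (y : T' ⟶ X) :
    lift (s ≫ u) y ≫ a.act = y := by
  have hall : actL a u = (snd (pt k R) X).left := eq_of_agree_opens fun V hV => by
    letI := GrothLib.AntiAffine.algOf hV
    let A : Type u := Γ(X.left, V)
    rcases isEmpty_or_nonempty V with hE | hN
    · haveI : Subsingleton A := by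
        have : V = ⊥ := TopologicalSpace.Opens.ext (Set.eq_empty_of_forall_notMem fun z hz => hE.false ⟨z, hz⟩)
        show Subsingleton Γ(X.left, V)
        rw [this]
        infer_instance
      refine GrothLib.AntiAffine.agree_ext (fun _ : PEmpty.{u+1} => A) (fun i => i.elim)
        (GrothLib.AntiAffine.wOf hV) (fun y _ => Subsingleton.elim (α := A) y 0) fun i => i.elim
    haveI : IsDomain A := inferInstanceAs (IsDomain Γ(X.left, V))
    let O : TopologicalSpace.Opens (PrimeSpectrum A) :=
      ⟨hV.fromSpec ⁻¹' Set.range t.left, t.left.isOpenEmbedding.isOpen_range.preimage hV.fromSpec.continuous⟩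
    have hO : (O : Set (PrimeSpectrum A)).Nonempty := by
      obtain ⟨v⟩ := hN
      obtain ⟨p, hp1, hp2⟩ := nonempty_preirreducible_inter V.2 t.left.isOpenEmbedding.isOpen_range ⟨v.1, v.2⟩ ht
      obtain ⟨q, rfl⟩ := hV.range_fromSpec.symm.subset hp1
      exact ⟨q, hp2⟩
    obtain ⟨p, hp⟩ := hO
    obtain ⟨_, ⟨c, rfl⟩, hpc, hsub⟩ :=
      (PrimeSpectrum.isTopologicalBasis_basic_opens (R := A)).exists_subset_of_mem_open hp O.2
    have hc : c ≠ 0 := fun e => hpc (e ▸ p.asIdeal.zero_mem)
    refine GrothLib.AntiAffine.agree_ext (fun _ : PUnit.{u+1} => Localization.Away c) (fun _ => awayHom c)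
      (GrothLib.AntiAffine.wOf hV) (fun y hy => ?_) fun _ => ?_
    · have := hy PUnit.unit
      rw [awayHom_apply] at this
      exact IsLocalization.injective (Localization.Away c)
        (powers_le_nonZeroDivisors_of_noZeroDivisors hc) (this.trans (map_zero _).symm)
    · let m := GrothLib.AntiAffine.ptMap (awayHom (k := k) c) ≫ GrothLib.AntiAffine.wOf hV
      have hm : Set.range m.left ⊆ Set.range t.left := by
        rintro _ ⟨z, rfl⟩
        have hz : PrimeSpectrum.comap (algebraMap A (Localization.Away c)) z ∈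
            (PrimeSpectrum.basicOpen c : Set (PrimeSpectrum A)) := by
          rw [← PrimeSpectrum.localization_away_comap_range (Localization.Away c) c]
          exact ⟨z, rfl⟩
        exact hsub hz
      let l : GrothLib.AntiAffine.pt (k := k) (Localization.Away c) ⟶ T :=
        Over.homMk (IsOpenImmersion.lift t.left m.left hm) (by
          refine Eq.trans ?_ (Over.w m)
          rw [← Over.w t, IsOpenImmersion.lift_fac_assoc])
      have hl : l ≫ t = m := Over.OverMorphism.ext (IsOpenImmersion.lift_fac _ _ hm)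
      show GrothLib.AntiAffine.Agree _ _ m
      rw [← hl]
      exact GrothLib.AntiAffine.Agree.comp h l
  have h2 : lift (fst (pt k R) X ≫ u) (snd (pt k R) X) ≫ a.act = snd (pt k R) X := Over.OverMorphism.ext hall
  have h3 := congrArg (lift s y ≫ ·) h2
  simp only [← Category.assoc, comp_lift, lift_fst, lift_snd] at h3
  exact h3

end GrothLib.Repr
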